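import Mathlib
import Cfsg.Agent.Lib.FPF.Aut
import Cfsg.Agent.Lib.Frob.Thompson

/-!
# Three-step towers; Ward's theorem

`isNilpotent_nilRes_of_key` reduces "Fitting height at most two" to a statement on three-step
towers `R, U, V`.  `ward` : an elementary abelian group of order `p²` acting without fixed points.
-/

set_option autoImplicit false

universe u v

namespace CfsgLib.FPF

open Subgroup Cfsg CfsgLib.Core CfsgLib.HH Module
open scoped commutatorElement

theorem injective_mk'_comp {A X : Type*} [Group A] [Group X] {ι : A →* X}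
    (hι : Function.Injective ι) {S : Subgroup X} (hcop : (Nat.card A).Coprime (Nat.card S))
    (N : Subgroup X) [N.Normal] (hN : N ≤ S) :
    Function.Injective ((QuotientGroup.mk' N).comp ι) := by
  rw [injective_iff_map_eq_one]
  intro a ha
  have h1 : ι a ∈ S := hN ((QuotientGroup.eq_one_iff _).1 ha)
  have h2 := Nat.dvd_gcd (orderOf_dvd_natCard a)
    (orderOf_injective ι hι a ▸ S.orderOf_dvd_natCard h1)
  rwa [hcop, Nat.dvd_one, orderOf_eq_one_iff] at h2

theorem card_range_of_injective {A X : Type*} [Group A] [Group X] {ι : A →* X}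
    (hι : Function.Injective ι) : Nat.card ι.range = Nat.card A :=
  Nat.card_congr (MonoidHom.ofInjective hι).symm.toEquiv

/-- reduction of "Fitting height at most two" to three-step towers -/
theorem isNilpotent_nilRes_of_key {A : Type v} [Group A]
    (key : ∀ {X : Type u} [Group X] [Finite X] (ι : A →* X), Function.Injective ι →
      ∀ {S : Subgroup X} [S.Normal], Group.IsSolvable S → (Nat.card A).Coprime (Nat.card S) →
      S ⊓ centralizer (ι.range : Set X) = ⊥ → ∀ (l : ℕ) [Fact l.Prime] (V : Type u)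
      [AddCommGroup V] [Module (ZMod l) V] [FiniteDimensional (ZMod l) V]
      (ρ : Representation (ZMod l) X V), ¬ l ∣ Nat.card A →
      (∀ v, (∀ a ∈ ι.range, ρ a v = v) → v = 0) → ∀ (u r : ℕ) (U R : Subgroup X), u.Prime →
      r.Prime → u ≠ l → r ≠ u → U ≤ S → R ≤ S → IsPGroup u U → IsPGroup r R → U.Normal →
      ι.range ≤ normalizer (R : Set X) → (∀ g ∈ U, ρ g = 1 → g = 1) →
      R ≤ centralizer (U : Set X)) (n : ℕ) :
    ∀ {X : Type u} [Group X] [Finite X] (ι : A →* X), Function.Injective ι →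
      ∀ {S : Subgroup X} [S.Normal], Nat.card S = n → Group.IsSolvable S →
      (Nat.card A).Coprime (Nat.card S) → S ⊓ centralizer (ι.range : Set X) = ⊥ →
      Group.IsNilpotent (nilRes S) := by
  induction n using Nat.strong_induction_on with
  | _ n ih =>
  intro X _ _ ι hι S _ hn hS hcop hfix
  have := nilRes_normal S
  have hcop' : ∀ (N : Subgroup X) [N.Normal],
      (Nat.card A).Coprime (Nat.card (S.map (QuotientGroup.mk' N))) :=
    fun N _ => hcop.coprime_dvd_right (card_map_dvd _ _)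
  have hfix' : ∀ (N : Subgroup X) [N.Normal], S.map (QuotientGroup.mk' N) ⊓
      centralizer (((QuotientGroup.mk' N).comp ι).range : Set (X ⧸ N)) = ⊥ := fun N _ => by
    rw [← MonoidHom.map_range]
    exact inf_centralizer_map_eq_bot hS (by rwa [card_range_of_injective hι]) hfix N
  have hih : ∀ (N : Subgroup X) [N.Normal], N ≠ ⊥ → N ≤ S →
      Group.IsNilpotent ((nilRes S).map (QuotientGroup.mk' N)) := by
    intro N _ hN hNS
    have := (inferInstance : S.Normal).map _ (QuotientGroup.mk'_surjective N)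
    rw [map_nilRes]
    exact ih _ (hn ▸ card_map_mk'_lt hN hNS) _ (injective_mk'_comp hι hcop N hNS) rfl
      (isSolvable_map _ _) (hcop' N) (hfix' N)
  refine isNilpotent_of_rep hS (nilRes_le S) hih ?_
  intro K _ hK hKS l _ V _ _ _ ρ hl hρ hV u U hu hul hUn hUH hU hi
  have := (inferInstance : S.Normal).map _ (QuotientGroup.mk'_surjective K)
  by_contra hU0
  have hι' := injective_mk'_comp hι hcop K hKS
  have h1 := hih K hK hKS
  rw [map_nilRes] at h1 hUH hi
  have hUS := hUH.trans (nilRes_le _)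
  obtain ⟨r, R, hr, hru, hRS, hR, -, hAR, hne⟩ := exists_sylow_not_le_centralizer
    (A := ((QuotientGroup.mk' K).comp ι).range) h1 hu hUH hU hi hU0 le_normalizer_of_normal
    (by rw [card_range_of_injective hι']; exact hcop' K) (Or.inr (isSolvable_map _ _))
  refine hne (key _ hι' (isSolvable_map _ _) (hcop' K) (hfix' K) l V ρ (fun h => ?_) ?_ u r U R hu hr
    hul hru hUS hRS hU hR hUn hAR fun g hg => hρ g (hUS hg))
  · exact (Fact.out : l.Prime).one_lt.ne' (Nat.dvd_one.1 (hcop ▸ Nat.dvd_gcd h hl))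
  · rw [← MonoidHom.map_range]
    exact hV _ hfix

theorem conj_mem_commutatorStabilizer {G : Type*} [Group G] {C N : Subgroup G} {x g : G}
    (hC : x ∈ normalizer (C : Set G)) (hN : x ∈ normalizer (N : Set G))
    (hg : g ∈ commutatorStabilizer C N) : x * g * x⁻¹ ∈ commutatorStabilizer C N := by
  refine ⟨mul_mem (mul_mem hN hg.1) (inv_mem hN), fun c hc => ?_⟩
  have := (mem_normalizer_iff.1 hN _).1 (hg.2 _ ((mem_normalizer_iff''.1 hC c).1 hc))
  convert this using 1
  simp only [commutatorElement_def]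
  group

/-- if `R = [R, b]` and `b` centralises `Q` modulo `K` then so does `R` -/
theorem commutator_le_of_commutator_eq {G : Type*} [Group G] {Q K R B : Subgroup G}
    (hRQ : R ≤ normalizer (Q : Set G)) (hRK : R ≤ normalizer (K : Set G))
    (hBK : B ≤ normalizer (K : Set G)) (hB : ⁅Q, B⁆ ≤ K) : ⁅Q, ⁅R, B⁆⁆ ≤ K := by
  have h1 : B ≤ commutatorStabilizer Q K :=
    le_commutatorStabilizer_iff.2 ⟨hBK, by rwa [commutator_comm]⟩
  rw [commutator_comm]
  refine (le_commutatorStabilizer_iff.1 (commutator_le.2 fun g hg b hb => ?_)).2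
  exact mul_mem (conj_mem_commutatorStabilizer (hRQ hg) (hRK hg) (h1 hb)) (inv_mem (h1 hb))

section orb

variable {F : Type*} [Field F] {G : Type*} [Group G] {V : Type*} [AddCommGroup V] [Module F V]

/-- the sum of the translates of `W` under `R` -/
def orbSp (ρ : Representation F G V) (R : Subgroup G) (W : Submodule F V) : Submodule F V :=
  ⨆ g : R, W.map (ρ g)

theorem map_le_orbSp (ρ : Representation F G V) {R : Subgroup G} (W : Submodule F V) {g : G}
    (hg : g ∈ R) : W.map (ρ g) ≤ orbSp ρ R W := le_iSup (fun g : R => W.map (ρ g)) ⟨g, hg⟩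

theorem le_orbSp (ρ : Representation F G V) (R : Subgroup G) (W : Submodule F V) :
    W ≤ orbSp ρ R W := by
  simpa only [map_rep_one] using map_le_orbSp ρ W R.one_mem

theorem mem_kerOn_orbSp {ρ : Representation F G V} {R : Subgroup G} {W : Submodule F V} {x : G} :
    x ∈ kerOn ρ (orbSp ρ R W) ↔ ∀ g ∈ R, x ∈ kerOn ρ (W.map (ρ g)) := by
  refine ⟨fun h g hg v hv => h v (map_le_orbSp ρ W hg hv), fun h v hv => ?_⟩
  have : orbSp ρ R W ≤ LinearMap.ker (ρ x - 1) := iSup_le fun g w hw => by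
    simpa [sub_eq_zero] using h g g.2 w hw
  simpa [sub_eq_zero] using this hv

variable [FiniteDimensional F V]

theorem mem_stab_orbSp {ρ : Representation F G V} {R : Subgroup G} {W : Submodule F V} {x : G}
    (h : ∀ g ∈ R, ∃ g' ∈ R, W.map (ρ (x * g)) = W.map (ρ g')) : x ∈ stab ρ (orbSp ρ R W) := by
  change orbSp ρ R W ≤ (orbSp ρ R W).comap (ρ x)
  refine iSup_le fun g => ?_
  obtain ⟨g', hg', e⟩ := h g g.2
  rw [← Submodule.map_le_iff_le_comap, map_map_rep, e]
  exact map_le_orbSp ρ W hg'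

theorem le_stab_orbSp (ρ : Representation F G V) (R : Subgroup G) (W : Submodule F V) :
    R ≤ stab ρ (orbSp ρ R W) := fun _ hx => mem_stab_orbSp fun _ hg => ⟨_, mul_mem hx hg, rfl⟩

theorem mem_stab_orbSp_of_forall {ρ : Representation F G V} {R : Subgroup G} {W : Submodule F V}
    {x : G} (h : ∀ g ∈ R, x ∈ stab ρ (W.map (ρ g))) : x ∈ stab ρ (orbSp ρ R W) :=
  mem_stab_orbSp fun g hg => ⟨g, hg, by rw [← map_map_rep, map_eq_of_mem_stab (h g hg)]⟩

theorem commutator_le_kerOn_wt {ρ : Representation F G V} {Z B : Subgroup G} {χ : Z → F}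
    (hB : B ≤ stab ρ (wt ρ Z χ)) : ⁅B, Z⁆ ≤ kerOn ρ (wt ρ Z χ) :=
  commutator_le.2 fun _ hb _ hz => comm_mem_kerOn_wt (hB hb) hz

theorem le_stab_fixSp {ρ : Representation F G V} {K : Subgroup G} :
    normalizer (K : Set G) ≤ stab ρ (fixSp ρ K) := fun _ hx _ hv => apply_mem_fixSp hx hv

end orb

theorem mem_of_mul_mem_of_coprime {G : Type*} [Group G] [Finite G] {C : Subgroup G} {a g : G}
    (hc : Commute g a) (hcop : (orderOf g).Coprime (orderOf a)) (h : g * a ∈ C) : a ∈ C := by
  have h1 : a ^ orderOf g ∈ C := by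
    simpa [hc.mul_pow] using pow_mem h (orderOf g)
  obtain ⟨m, hm⟩ := exists_pow_eq_self_of_coprime hcop
  rw [← hm]
  exact pow_mem h1 m

theorem ward_key {F : Type*} [Field F] [IsAlgClosed F] {X : Type*} [Group X] [Finite X]
    {V : Type*} [AddCommGroup V] [Module F V] [FiniteDimensional F V] (ρ : Representation F X V)
    {p : ℕ} (hp : p.Prime) {A S : Subgroup X} [S.Normal] (hA : IsElementaryAbelian p A)
    (hcard : Nat.card A = p ^ 2) (hcop : (Nat.card A).Coprime (Nat.card S))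
    (hfix : S ⊓ centralizer (A : Set X) = ⊥) (hV : ∀ v, (∀ a ∈ A, ρ a v = v) → v = 0)
    {u r : ℕ} {U R : Subgroup X} (hu : u.Prime) (hr : r.Prime) (huF : (u : F) ≠ 0) (hru : r ≠ u)
    (hUS : U ≤ S) (hRS : R ≤ S) (hU : IsPGroup u U) (hR : IsPGroup r R) [U.Normal]
    (hAR : A ≤ normalizer (R : Set X)) (hρ : ∀ g ∈ U, ρ g = 1 → g = 1) :
    R ≤ centralizer (U : Set X) := by
  have := Fact.mk hu
  have := Fact.mk hr
  have := Fact.mk hp
  have hAc := hA.1
  have hAs : Group.IsSolvable A := CfsgLib.Coprime.isSolvable_of_isMulCommutative A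
  have hcA : ∀ {T : Subgroup X}, T ≤ S → (Nat.card A).Coprime (Nat.card T) := fun h =>
    CfsgLib.Coprime.coprime_of_le hcop le_rfl h
  have hord : ∀ b ∈ A, b ≠ 1 → orderOf b = p := fun b hb h1 => orderOf_eq_prime (hA.2 b hb) h1
  have hcomm : ∀ b ∈ A, A ≤ centralizer {b} := fun b hb c hc =>
    mem_centralizer_singleton_iff.2 (isMulCommutative_iff_forall.1 hAc c hc b hb)
  have hgen : ∀ b ∈ A, b ≠ 1 → ∀ c ∈ A, c ∉ zpowers b → zpowers b ⊔ zpowers c = A := by
    intro b hb h1 c hc hcb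
    refine CfsgLib.Coprime.eq_of_lt_of_relIndex_prime (H := zpowers b) ?_
      (left_lt_sup.2 (by rwa [zpowers_le])) (sup_le (zpowers_le.2 hb) (zpowers_le.2 hc))
    have h2 := card_mul_relIndex_of_le (zpowers_le.2 hb)
    rw [Nat.card_zpowers, hord b hb h1, hcard, sq] at h2
    rwa [Nat.eq_of_mul_eq_mul_left hp.pos h2]
  have hfix2 : ∀ b ∈ A, b ≠ 1 → ∀ c ∈ A, c ∉ zpowers b → ∀ T ≤ S,
      T ⊓ centralizer {b} ⊓ centralizer {c} = ⊥ := by
    intro b hb h1 c hc hcb T hT
    rw [eq_bot_iff, ← hfix, ← hgen b hb h1 c hc hcb, centralizer_sup, centralizer_zpowers,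
      centralizer_zpowers, inf_assoc]
    exact inf_le_inf_right _ hT
  have hzp : ∀ b ∈ A, ∀ c ∈ zpowers b, c ≠ 1 → ∀ C : Subgroup X, c ∈ C → b ∈ C := by
    intro b hb c hc h1 C hC
    by_contra h
    have hb1 : b ≠ 1 := by rintro rfl; exact h (one_mem _)
    have h2 : c ∈ zpowers b ⊓ C := ⟨hc, hC⟩
    rw [zpowers_inf_eq_bot_of_prime_orderOf (hord b hb hb1 ▸ hp) h] at h2
    exact h1 h2
  have hnc : ¬ IsCyclic A := fun h => by
    obtain ⟨g, hg⟩ := h.exists_ofOrder_eq_natCard
    have h1 := Nat.le_of_dvd hp.pos (orderOf_dvd_of_pow_eq_one (show g ^ p = 1 from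
      Subtype.ext (hA.2 g g.2)))
    rw [hg, hcard] at h1
    nlinarith [hp.two_le]
  by_contra hne
  obtain ⟨a, haA, ha1, hne'⟩ : ∃ a ∈ A, a ≠ 1 ∧ ¬ R ⊓ centralizer {a} ≤ centralizer (U : Set X) := by
    by_contra h
    push Not at h
    exact hne (CfsgLib.Coprime.le_of_forall_centralizer_le hnc hAR (hcA hRS) h)
  set R' := R ⊓ centralizer {a} with hR'
  have hNC : ∀ b ∈ A, A ≤ normalizer ((centralizer {b} : Subgroup X) : Set X) := fun b hb =>
    (hcomm b hb).trans le_normalizer
  have hAR' : A ≤ normalizer (R' : Set X) :=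
    (le_inf hAR (hNC a haA)).trans inf_normalizer_le_normalizer_inf
  have hR'S : R' ≤ S := inf_le_left.trans hRS
  have hcRU : ∀ {T : Subgroup X}, T ≤ U → (Nat.card R').Coprime (Nat.card T) := fun h =>
    IsPGroup.coprime_card_of_ne r u hru _ _ (hR.to_le inf_le_left) (hU.to_le h)
  have hCa : R' ≤ centralizer ((U ⊓ centralizer {a} : Subgroup X) : Set X) := by
    obtain ⟨c, hc, hca⟩ : ∃ c ∈ A, c ∉ zpowers a := by
      by_contra h
      push Not at h
      have h1 := card_le_of_le (show A ≤ zpowers a from h)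
      rw [hcard, Nat.card_zpowers, hord a haA ha1] at h1
      nlinarith [hp.two_le]
    have := CfsgLib.Frob.isNilpotent_of_fpf (K := S ⊓ centralizer {a})
      (inf_normalizer_le_normalizer_inf ⟨le_normalizer_of_normal (mem_top c), hNC a haA hc⟩)
      (hfix2 a haA ha1 c hc hca S le_rfl) hp (by rw [hA.2 c hc]; exact one_mem _)
    exact le_centralizer_of_coprime_of_le_isNilpotent (N := S ⊓ centralizer {a})
      (inf_le_inf_right _ hRS) (inf_le_inf_right _ hUS) (hcRU inf_le_left)
  set Q := ⁅U, R'⁆ with hQ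
  have hQU : Q ≤ U := commutator_le_left _ _
  have hQR : ⁅Q, R'⁆ = Q :=
    CfsgLib.Coprime.commutator_commutator_eq le_normalizer_of_normal (hcRU le_rfl)
  have hAQ : A ≤ normalizer (Q : Set X) :=
    (le_inf le_normalizer_of_normal hAR').trans (normalizer_inf_le_normalizer_commutator _ _)
  have hRQ : R' ≤ normalizer (Q : Set X) := normalizer_commutator_ge_right _ _
  have hQ0 : Q ≠ ⊥ := fun h => hne' (le_centralizer_iff.1 (commutator_eq_bot_iff_le_centralizer.1 h))
  have hQu := hU.to_le hQU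
  let Z := Q ⊓ centralizer (Q : Set X)
  have hNZ : normalizer (Q : Set X) ≤ normalizer (Z : Set X) :=
    (le_inf le_rfl (normalizer_le_normalizer_centralizer _)).trans inf_normalizer_le_normalizer_inf
  obtain ⟨⟨z, hz⟩, hz1⟩ := ne_bot_iff_exists_ne_one.1
    (inf_centralizer_ne_bot_of_isPGroup hQu hQu le_normalizer hQ0)
  have hZQ : ∀ z ∈ Z, ∀ g ∈ Q, ρ z * ρ g = ρ g * ρ z := fun z hz g hg => by
    rw [← map_mul, ← map_mul, hz.2 g hg]
  obtain ⟨n, hn⟩ := isPGroup_subgroup_iff.1 hQu z hz.1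
  obtain ⟨χ, hW, hχ⟩ := exists_wt_not_mem_kerOn ρ (Z := Z) (fun z hz z' hz' => hZQ z hz z' hz'.1)
    (fun z' hz' => hZQ z' hz' z hz.1) (m := u ^ n) (by rw [Nat.cast_pow]; exact pow_ne_zero _ huF)
    (by rw [← map_pow, hn, map_one]) (fun h => hz1 (Subtype.ext (hρ _ (hQU hz.1) h)))
  set W := wt ρ Z χ with hWdef
  have hZA : ⁅Z, A⁆ = Z := CfsgLib.Coprime.commutator_eq_of_centralizer_eq_bot (hAQ.trans hNZ)
    (hcA (inf_le_left.trans (hQU.trans hUS))) (Or.inl hAs)
    (eq_bot_iff.2 (hfix ▸ inf_le_inf_right _ (inf_le_left.trans (hQU.trans hUS))))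
  have hnot : ∀ g ∈ R', ¬ A ≤ stab ρ (W.map (ρ g)) := by
    intro g hg h
    have hgZ := hNZ (hRQ hg)
    rw [hWdef, map_wt ρ hgZ] at h
    have h1 := commutator_le_kerOn_wt h
    rw [commutator_comm, hZA, ← map_wt] at h1
    have h2 := mem_kerOn_map_iff.1 (h1 ((mem_normalizer_iff.1 hgZ z).1 hz))
    exact hχ (by simpa [mul_assoc] using h2)
  have hex : ∀ g ∈ R', ∃ c ∈ A, c ≠ 1 ∧ c ∈ stab ρ (W.map (ρ g)) := by
    intro g hg
    have h1 : A ⊓ stab ρ (W.map (ρ g)) ≠ ⊥ := fun h => by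
      apply map_rep_ne_bot ρ hW g
      rw [hWdef, map_wt ρ (hNZ (hRQ hg))] at h ⊢
      exact wt_eq_bot_of_free ρ (hAQ.trans hNZ) _ h hV
    obtain ⟨⟨c, hc⟩, hc1⟩ := ne_bot_iff_exists_ne_one.1 h1
    exact ⟨c, hc.1, fun h => hc1 (Subtype.ext h), hc.2⟩
  obtain ⟨b, hbA, hb1, hbW⟩ := hex 1 (one_mem _)
  rw [map_rep_one] at hbW
  have hb : ∀ g ∈ R', b ∈ stab ρ (W.map (ρ g)) := by
    intro g hg
    by_cases hba : b ∈ zpowers a
    · have h1 : b ∈ centralizer {g} :=
        zpowers_le.2 (mem_centralizer_singleton_iff.2 (mem_centralizer_singleton_iff.1 hg.2).symm) hba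
      rw [mem_stab_map_iff, mul_assoc, mem_centralizer_singleton_iff.1 h1]
      simpa using hbW
    obtain ⟨c, hcA', hc1, hc⟩ := hex g hg
    by_cases hcb : c ∈ zpowers b
    · exact hzp b hbA c hcb hc1 _ hc
    exfalso
    have h1 : A ≤ R' ⊔ (stab ρ W ⊓ normalizer (R' : Set X)) := by
      rw [← hgen b hbA hb1 c hcA' hcb]
      refine sup_le (zpowers_le.2 (mem_sup_right ⟨hbW, hAR' hbA⟩)) (zpowers_le.2 ?_)
      rw [show c = g * (g⁻¹ * c * g) * g⁻¹ by group]
      refine mul_mem (mul_mem (mem_sup_left hg) (mem_sup_right ⟨mem_stab_map_iff.1 hc, ?_⟩))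
        (mem_sup_left (inv_mem hg))
      exact Subgroup.mul_mem _ (mul_mem (inv_mem (le_normalizer hg)) (hAR' hcA')) (le_normalizer hg)
    obtain ⟨g', hg', s, hs, e⟩ := (mem_sup_of_le_normalizer_left inf_le_right).1 (h1 haA)
    have h2 : a ∈ stab ρ W := by
      refine mem_of_mul_mem_of_coprime (g := g'⁻¹)
        (mem_centralizer_singleton_iff.1 (R'.inv_mem hg').2) ?_ (by rw [← e]; simpa using hs.1)
      exact ((hcA hR'S).coprime_dvd_left (A.orderOf_dvd_natCard haA)).symm.coprime_dvd_left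
        (R'.orderOf_dvd_natCard (inv_mem hg'))
    apply hnot 1 (one_mem _)
    rw [map_rep_one, ← hgen a haA ha1 b hbA hba]
    exact sup_le (zpowers_le.2 h2) (zpowers_le.2 hbW)
  have hpu : p ≠ u := by
    rintro rfl
    have h1 := Nat.dvd_gcd (hcard ▸ dvd_pow_self p two_ne_zero : p ∣ Nat.card A)
      (dvd_card_of_isPGroup_of_ne_bot hQu hQ0)
    rw [hcA (hQU.trans hUS)] at h1
    exact hp.one_lt.ne' (Nat.dvd_one.1 h1)
  set K := kerOn ρ (orbSp ρ R' W) with hK
  have hQK : Q ≤ normalizer (K : Set X) := fun x hx => stab_le_normalizer_kerOn _ _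
    (mem_stab_orbSp_of_forall fun g hg => le_stab_map (le_stab_wt hZQ χ) (hRQ hg) hx)
  have hRK : R' ≤ normalizer (K : Set X) := (le_stab_orbSp ρ R' W).trans (stab_le_normalizer_kerOn _ _)
  have hbK : b ∈ normalizer (K : Set X) := stab_le_normalizer_kerOn _ _ (mem_stab_orbSp_of_forall hb)
  have hQle : Q ≤ K ⊔ (Q ⊓ centralizer {b}) := by
    refine CfsgLib.Coprime.le_of_forall_centralizer_le hnc hAQ (hcA (hQU.trans hUS))
      fun c hc hc1 => ?_
    by_cases hcb : c ∈ zpowers b
    · refine le_sup_of_le_right fun x hx => ⟨hx.1, ?_⟩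
      have h1 := hzp b hbA c hcb hc1 (centralizer {x}) (mem_centralizer_singleton_iff.2
        (mem_centralizer_singleton_iff.1 hx.2).symm)
      exact mem_centralizer_singleton_iff.2 (mem_centralizer_singleton_iff.1 h1).symm
    refine le_sup_of_le_left fun x hx => mem_kerOn_orbSp.2 fun g hg => ?_
    have hbc : b ∉ zpowers c := fun h => hcb (hzp c hc b h hb1 _ (mem_zpowers b))
    have hfree : zpowers c ⊓ stab ρ (W.map (ρ g)) = ⊥ :=
      zpowers_inf_eq_bot_of_prime_orderOf (hord c hc hc1 ▸ hp) fun h => hnot g hg (by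
        rw [← hgen b hbA hb1 c hc hcb]; exact sup_le (zpowers_le.2 (hb g hg)) (zpowers_le.2 h))
    rw [hWdef, map_wt ρ (hNZ (hRQ hg))] at hfree ⊢
    refine mem_kerOn_of_free ρ (zpowers_le.2 (hNZ (hAQ hc))) _ hfree (fun z hz => hZQ z hz x hx.1) ?_
    have hN : centralizer {c} ≤ normalizer ((zpowers c : Subgroup X) : Set X) :=
      centralizer_zpowers c ▸ centralizer_le_normalizer _
    refine le_kerOn_of_fpf hp hpu huF ρ (hQu.to_le inf_le_left)
      (inf_normalizer_le_normalizer_inf ⟨hAQ hbA, hNC c hc hbA⟩) (hA.2 b hbA)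
      (hfix2 c hc hc1 b hbA hbc Q (hQU.trans hUS)) ((inf_le_right.trans hN).trans le_stab_fixSp)
      (le_stab_fixSp (hN (hcomm c hc hbA))) (fun v hv h => hV v fun x hx => ?_) hx
    rw [← hgen c hc hc1 b hbA hbc] at hx
    exact (sup_le (fun y hy => hv y hy) (zpowers_le.2 h) : _ ≤ vecStab ρ v) hx
  have hfin : ⁅Q, R'⁆ ≤ K := by
    by_cases hba : b ∈ zpowers a
    · refine (commutator_mono hQle le_rfl).trans (commutator_sup_left_le le_normalizer
        (inf_le_left.trans hQK) (CfsgLib.Coprime.commutator_le_of_le_normalizer hRK) ?_)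
      rw [commutator_comm, commutator_eq_bot_iff_le_centralizer.2]
      · exact bot_le
      refine hCa.trans (centralizer_le fun x hx => ⟨hQU hx.1, ?_⟩)
      have h1 := hzp a haA b hba hb1 (centralizer {x}) (mem_centralizer_singleton_iff.2
        (mem_centralizer_singleton_iff.1 hx.2).symm)
      exact mem_centralizer_singleton_iff.2 (mem_centralizer_singleton_iff.1 h1).symm
    · have h1 : ⁅R', zpowers b⁆ = R' := CfsgLib.Coprime.commutator_eq_of_centralizer_eq_bot
        (zpowers_le.2 (hAR' hbA)) (CfsgLib.Coprime.coprime_of_le hcop (zpowers_le.2 hbA) hR'S)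
        (Or.inl (CfsgLib.Coprime.isSolvable_zpowers b))
        (by rw [centralizer_zpowers]; exact hfix2 a haA ha1 b hbA hba R hRS)
      rw [← h1]
      refine commutator_le_of_commutator_eq hRQ hRK (zpowers_le.2 hbK) ?_
      refine (commutator_mono hQle le_rfl).trans (commutator_sup_left_le le_normalizer
        (inf_le_left.trans hQK)
        (CfsgLib.Coprime.commutator_le_of_le_normalizer (zpowers_le.2 hbK)) ?_)
      rw [commutator_eq_bot_iff_le_centralizer.2 (centralizer_zpowers b ▸ inf_le_right)]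
      exact bot_le
  rw [hQR] at hfin
  exact hχ fun v hv => hfin hz.1 v (le_orbSp ρ R' W hv)

theorem natCast_algebraicClosure_ne_zero {F : Type*} [Field F] {n : ℕ} (h : (n : F) ≠ 0) :
    (n : AlgebraicClosure F) ≠ 0 := by
  rw [← map_natCast (algebraMap F (AlgebraicClosure F))]
  exact (map_ne_zero _).2 h

/-- Ward's theorem -/
theorem ward {G : Type u} [Group G] [Finite G] (hG : Group.IsSolvable G) {p : ℕ} (hp : p.Prime)
    (A : Subgroup (MulAut G)) (hA : IsElementaryAbelian p A) (hcard : Nat.card A = p ^ 2)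
    (hfpf : ∀ g : G, (∀ a ∈ A, a g = g) → g = 1) : fitSer 2 (⊤ : Subgroup G) = ⊥ := by
  have := Fact.mk hp
  let φ := A.subtype
  have : Finite (G ⋊[φ] A) := CfsgLib.Coprime.finite_sd
  have := CfsgLib.Coprime.sdL_top_normal (φ := φ)
  have hAp : IsPGroup p A := isElementaryAbelian_isPGroup hA
  have hfix : CfsgLib.Coprime.sdL φ ⊤ ⊓
      centralizer ((SemidirectProduct.inr : A →* G ⋊[φ] A).range : Set _) = ⊥ := by
    rw [MonoidHom.range_eq_map]
    refine (CfsgLib.Coprime.sdL_inf_centralizer ⊤).trans ?_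
    rw [← CfsgLib.Coprime.sdL_bot, CfsgLib.Coprime.sdL_inj, eq_bot_iff]
    exact fun g hg => hfpf g fun a ha => hg.2 ⟨a, ha⟩
  rw [← fitSer_sdL φ, fitSer_succ_eq_bot_iff]
  refine isNilpotent_nilRes_of_key (A := A) ?_ _ SemidirectProduct.inr
    SemidirectProduct.inr_injective rfl (isSolvable_sdL φ hG) ?_ hfix
  · intro X _ _ ι hι S _ _ hcop hfix l _ V _ _ _ ρ hl hV u r U R hu hr hul hru hUS hRS hU hR _ hAR hρ
    have hA' : IsElementaryAbelian p ι.range := by
      have := hA.1
      refine ⟨inferInstance, ?_⟩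
      rintro _ ⟨a, rfl⟩
      rw [← map_pow, show a ^ p = 1 from Subtype.ext (hA.2 a a.2), map_one]
    have hc := card_range_of_injective hι
    refine ward_key (baseChangeRep (AlgebraicClosure (ZMod l)) ρ) hp hA' (hc ▸ hcard) (hc ▸ hcop)
      hfix (fix_of_rankDom (rankDom_baseChangeRep _ ρ)
        (natCast_algebraicClosure_ne_zero (card_ne_zero_zmod (hc ▸ hl))) hV) hu hr
      (natCast_algebraicClosure_ne_zero (natCast_zmod_ne_zero Fact.out hu hul.symm)) hru hUS hRS hU
      hR hAR fun g hg h => hρ g hg ((baseChangeRep_eq_one_iff _ ρ).1 h)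
  · rw [hcard]
    refine ((Nat.Prime.coprime_iff_not_dvd hp).2 (not_dvd_card_of_fpf hp ?_
      le_normalizer_of_normal hfix)).pow_left 2
    exact hAp.of_equiv (MonoidHom.ofInjective SemidirectProduct.inr_injective)

end CfsgLib.FPF
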