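import Mathlib
import Cfsg.Agent.Lib.FPF.Ward
import Cfsg.Agent.Lib.PF.Wielandt
import Cfsg.Agent.Lib.Core.Frattini

/-!
# An element of prime order on a three-step tower

`three_step` : if `t` of prime order normalises `R` and `Q = [Q, R]` (class two, `R` centralising
`Q'`) and has no fixed vector then `[Q, t]` acts trivially.  Also: minimal coprime action
(`minimal_special`) and Wielandt's formula modulo the kernel of the action (`wielandt_mod`).
-/

set_option autoImplicit false

namespace CfsgLib.FPF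

open Subgroup CfsgLib.Core CfsgLib.HH Module
open scoped commutatorElement

variable {G : Type*} [Group G]

theorem normalizer_le_normalizer_inf_centralizer (Q : Subgroup G) :
    normalizer (Q : Set G) ≤ normalizer ((Q ⊓ centralizer (Q : Set G) : Subgroup G) : Set G) :=
  (le_inf le_rfl (normalizer_le_normalizer_centralizer _)).trans inf_normalizer_le_normalizer_inf

theorem normalizer_le_normalizer_commutator_self (Q : Subgroup G) :
    normalizer (Q : Set G) ≤ normalizer ((⁅Q, Q⁆ : Subgroup G) : Set G) :=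
  (le_inf le_rfl le_rfl).trans (normalizer_inf_le_normalizer_commutator Q Q)

theorem exists_minimal_not_le_centralizer [Finite G] {U S R : Subgroup G}
    (hS : S ≤ normalizer (U : Set G)) (hR : R ≤ normalizer (U : Set G))
    (h : ¬ R ≤ centralizer (U : Set G)) :
    ∃ Q ≤ U, S ≤ normalizer (Q : Set G) ∧ R ≤ normalizer (Q : Set G) ∧
      ¬ R ≤ centralizer (Q : Set G) ∧ ∀ D < Q, S ≤ normalizer (D : Set G) →
        R ≤ normalizer (D : Set G) → R ≤ centralizer (D : Set G) := by
  obtain ⟨Q, ⟨h1, h2, h3, h4⟩, hmin⟩ := WellFounded.has_min (wellFounded_lt (α := Subgroup G))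
    {Q | Q ≤ U ∧ S ≤ normalizer (Q : Set G) ∧ R ≤ normalizer (Q : Set G) ∧
      ¬ R ≤ centralizer (Q : Set G)} ⟨U, le_rfl, hS, hR, h⟩
  refine ⟨Q, h1, h2, h3, h4, fun D hD h5 h6 => ?_⟩
  by_contra h7
  exact hmin D ⟨hD.le.trans h1, h5, h6, h7⟩ hD

/-- the structure of a `u`-group on which `R` acts nontrivially, minimal among invariant ones -/
theorem minimal_special [Finite G] {u : ℕ} [Fact u.Prime] {Q S R : Subgroup G} (hQ : IsPGroup u Q)
    (hS : S ≤ normalizer (Q : Set G)) (hR : R ≤ normalizer (Q : Set G))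
    (hSR : S ≤ normalizer (R : Set G)) (hcop : (Nat.card R).Coprime (Nat.card Q))
    (h : ¬ R ≤ centralizer (Q : Set G))
    (hmin : ∀ D < Q, S ≤ normalizer (D : Set G) → R ≤ normalizer (D : Set G) →
      R ≤ centralizer (D : Set G)) :
    ⁅Q, R⁆ = Q ∧ ⁅Q, Q⁆ ≤ centralizer (Q : Set G) ∧ R ≤ centralizer ((⁅Q, Q⁆ : Subgroup G) : Set G) ∧
      (∀ g ∈ Q, g ^ u ∈ centralizer (Q : Set G)) ∧
      Q ⊓ centralizer (R : Set G) ≤ centralizer (Q : Set G) := by
  have hQ0 : Q ≠ ⊥ := by
    rintro rfl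
    exact h fun g _ x hx => by rw [mem_bot.1 hx]; simp
  have h1 : ⁅Q, R⁆ = Q := by
    by_contra hne
    have h2 := hmin _ (lt_of_le_of_ne (CfsgLib.Coprime.commutator_le_of_le_normalizer hR) hne)
      ((le_inf hS hSR).trans (normalizer_inf_le_normalizer_commutator _ _))
      (normalizer_commutator_ge_right _ _)
    exact h (CfsgLib.Coprime.le_centralizer_of_commutator_le_centralizer hR hcop
      (le_centralizer_iff.1 h2))
  have key : ∀ D < Q, Q ≤ normalizer (D : Set G) → S ≤ normalizer (D : Set G) →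
      R ≤ normalizer (D : Set G) → D ≤ centralizer (Q : Set G) := by
    intro D hD h2 h3 h4
    have h5 := commutator_eq_bot_iff_le_centralizer.2 (hmin D hD h3 h4)
    rw [← le_centralizer_iff, ← commutator_eq_bot_iff_le_centralizer, ← h1]
    refine commutator_commutator_eq_bot_of_rotate (by rw [h5, commutator_bot_left]) ?_
    rw [eq_bot_iff, ← h5, commutator_comm R]
    exact commutator_mono (CfsgLib.Coprime.commutator_le_of_le_normalizer h2) le_rfl
  have hN := normalizer_le_normalizer_map_frattini Q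
  have h2 := key _ (map_frattini_lt hQ0) (le_normalizer.trans hN) (hS.trans hN) (hR.trans hN)
  have h3 : R ≤ centralizer ((⁅Q, Q⁆ : Subgroup G) : Set G) :=
    (hmin _ (map_frattini_lt hQ0) (hS.trans hN) (hR.trans hN)).trans
      (centralizer_le (commutator_le_map_frattini hQ))
  refine ⟨h1, (commutator_le_map_frattini hQ).trans h2, h3,
    fun g hg => h2 (pow_mem_map_frattini hQ hg), key _ (lt_of_le_of_ne inf_le_left fun e => ?_) ?_ ?_ ?_⟩
  · exact h (le_centralizer_iff.1 (e.ge.trans inf_le_right))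
  · exact le_normalizer_of_commutator_le ((commutator_mono inf_le_left le_rfl).trans
      (le_inf (commutator_le_of_le le_rfl le_rfl) (le_centralizer_iff.1 h3)))
  · exact (le_inf hS (hSR.trans (normalizer_le_normalizer_centralizer _))).trans
      inf_normalizer_le_normalizer_inf
  · exact (le_inf hR (le_normalizer.trans (normalizer_le_normalizer_centralizer _))).trans
      inf_normalizer_le_normalizer_inf

theorem mem_of_pow_mem_of_prime {C : Subgroup G} {t : G} {p : ℕ} (hp : p.Prime) (ht : t ^ p = 1)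
    {e : G} (he : e ∈ zpowers t) (he1 : e ≠ 1) (h : e ∈ C) : t ∈ C := by
  have := Fact.mk hp
  by_contra hc
  have ht1 : t ≠ 1 := by rintro rfl; exact hc (one_mem _)
  have h2 : e ∈ zpowers t ⊓ C := ⟨he, h⟩
  rw [zpowers_inf_eq_bot_of_prime_orderOf (orderOf_eq_prime ht ht1 ▸ hp) hc] at h2
  exact he1 h2

/-- Wielandt's fixed point formula for a group that is Frobenius modulo the kernel of the action -/
theorem wielandt_mod [Finite G] {U H : Subgroup G} {t : G} {p : ℕ} (hp : p.Prime) (ht : t ^ p = 1)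
    (htU : t ∈ normalizer (U : Set G)) (hUH : U ≤ normalizer (H : Set G))
    (htH : t ∈ normalizer (H : Set G)) (hH : Group.IsSolvable H)
    (hcU : p.Coprime (Nat.card U)) (hcH : p.Coprime (Nat.card H))
    (hcop : (Nat.card U).Coprime (Nat.card H))
    (hC : ∀ u ∈ U, t * u = u * t → u ∈ centralizer (H : Set G))
    (hne : ¬ U ≤ centralizer (H : Set G)) :
    Nat.card ↥(H ⊓ centralizer {t} ⊓ centralizer (U : Set G)) ^ p * Nat.card H =
      Nat.card ↥(H ⊓ centralizer {t}) ^ p * Nat.card ↥(H ⊓ centralizer (U : Set G)) := by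
  have := Fact.mk hp
  have hot : orderOf t ∣ p := orderOf_dvd_of_pow_eq_one ht
  have hn : U ⊔ zpowers t ≤ normalizer (H : Set G) := sup_le hUH (zpowers_le.2 htH)
  let φ := H.normalizerMonoidHom.comp (inclusion hn)
  let π := φ.rangeRestrict
  have hπ : Function.Surjective π := φ.rangeRestrict_surjective
  have hker : ∀ g : ↥(U ⊔ zpowers t), π g = 1 ↔ (g : G) ∈ centralizer (H : Set G) := fun g => by
    rw [← Subtype.coe_inj]
    change H.normalizerMonoidHom _ = 1 ↔ _
    rw [← MonoidHom.mem_ker, normalizerMonoidHom_ker, mem_subgroupOf]; rfl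
  have hfix : ∀ B : Subgroup G, B ≤ U ⊔ zpowers t → Nat.card (CfsgLib.PF.actFix φ.range.subtype
      ((B.subgroupOf (U ⊔ zpowers t)).map π)) = Nat.card ↥(H ⊓ centralizer (B : Set G)) := by
    intro B hB
    rw [inf_comm, ← card_subgroupOf]
    congr 2
    ext h
    rw [CfsgLib.PF.mem_actFix, mem_subgroupOf, mem_centralizer_iff]
    constructor
    · intro h1 b hb
      have := congrArg Subtype.val (h1 _ ⟨⟨b, hB hb⟩, hb, rfl⟩)
      exact mul_inv_eq_iff_eq_mul.1 this
    · rintro h1 _ ⟨b, hb, rfl⟩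
      exact Subtype.ext (mul_inv_eq_iff_eq_mul.2 (h1 b hb))
  have hNC : U ⊔ zpowers t ≤ normalizer ((U ⊓ centralizer (H : Set G) : Subgroup G) : Set G) :=
    (le_inf (sup_le le_normalizer (zpowers_le.2 htU))
      (hn.trans (normalizer_le_normalizer_centralizer _))).trans inf_normalizer_le_normalizer_inf
  have key : ∀ e ∈ zpowers t, e ≠ 1 → ∀ u ∈ U, e * u * e⁻¹ * u⁻¹ ∈ centralizer (H : Set G) →
      u ∈ centralizer (H : Set G) := by
    intro e he he1 u hu h
    have h1 := mem_of_pow_mem_of_prime (C := cosetStab (U ⊓ centralizer (H : Set G)) u) hp ht he he1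
      ⟨hNC (mem_sup_right he), U.mul_mem ((mem_normalizer_iff.1 (zpowers_le.2 htU he) u).1 hu)
        (inv_mem hu), h⟩
    exact (mem_of_comm_mem inf_le_left (le_sup_left.trans hNC) h1.1
      ((hcU.coprime_dvd_left hot).coprime_dvd_right (card_dvd_of_le inf_le_left))
      (fun g hg h => ⟨hg, hC g hg h⟩) hu h1.2).2
  have hUn : (U.subgroupOf (U ⊔ zpowers t)).Normal :=
    normal_subgroupOf_of_le_normalizer (sup_le le_normalizer (zpowers_le.2 htU))
  have := hUn.map π hπ
  let t' : ↥(U ⊔ zpowers t) := ⟨t, mem_sup_right (mem_zpowers t)⟩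
  have hE : (zpowers t).subgroupOf (U ⊔ zpowers t) = zpowers t' := by
    apply map_injective (U ⊔ zpowers t).subtype_injective
    rw [map_subgroupOf_eq_of_le le_sup_right, MonoidHom.map_zpowers]; rfl
  have hcE : Nat.card (((zpowers t).subgroupOf (U ⊔ zpowers t)).map π) = p := by
    rw [hE, MonoidHom.map_zpowers, Nat.card_zpowers]
    refine orderOf_eq_prime (by rw [← map_pow, show t' ^ p = 1 from Subtype.ext ht, map_one])
      fun h => hne fun u hu => ?_
    have h1 := (hker t').1 h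
    by_cases ht1 : t = 1
    · exact hC u hu (by simp [ht1])
    refine key t (mem_zpowers t) ht1 u hu ?_
    rw [mul_assoc, mul_assoc, ← mul_assoc u]
    exact mul_mem h1 ((mem_normalizer_iff.1 (normalizer_le_normalizer_centralizer _ (hUH hu)) _).1
      (inv_mem h1))
  have hcU' : Nat.card ((U.subgroupOf (U ⊔ zpowers t)).map π) ∣ Nat.card U :=
    (card_map_dvd _ _).trans (card_subgroupOf_of_le le_sup_left).dvd
  have hsup : (U.subgroupOf (U ⊔ zpowers t)).map π ⊔ ((zpowers t).subgroupOf (U ⊔ zpowers t)).map π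
      = ⊤ := by
    rw [← Subgroup.map_sup, ← subgroupOf_sup le_sup_left le_sup_right, subgroupOf_self,
      map_top_of_surjective _ hπ]
  have h := CfsgLib.PF.wielandt_frobenius_action _ _
    (inf_eq_bot_of_coprime_card (by rw [hcE]; exact (hcU.coprime_dvd_right hcU').symm)) hsup (by
      rintro _ ⟨e, he, rfl⟩ he1 _ ⟨u, hu, rfl⟩ h
      rw [hker]
      refine key e he (fun h1 => he1 (by rw [show e = 1 from Subtype.ext h1, map_one])) u hu ?_
      refine (hker (e * u * e⁻¹ * u⁻¹)).1 ?_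
      rw [map_mul, map_mul, map_mul, h, map_inv, map_inv]
      group) φ.range.subtype hH (by
      rw [← card_top (G := φ.range), ← (sup_comm _ _).trans hsup]
      refine Nat.Coprime.coprime_dvd_right (card_sup_dvd_of_normal _ _) ?_
      rw [hcE]
      exact Nat.Coprime.mul_right hcH.symm (hcop.symm.coprime_dvd_right hcU'))
  rw [hcE, ← map_top_of_surjective _ hπ, ← subgroupOf_self, hfix _ le_rfl, hfix _ le_sup_left,
    hfix _ le_sup_right, centralizer_sup, centralizer_zpowers, inf_comm (centralizer _),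
    ← inf_assoc] at h
  exact h

theorem dvd_relIndex_sub_one [Finite G] {Z U : Subgroup G} (hZU : Z ≤ U) {t : G} {p : ℕ}
    (hp : p.Prime) (ht : orderOf t = p) (htU : t ∈ normalizer (U : Set G))
    (htZ : t ∈ normalizer (Z : Set G)) (hcop : p.Coprime (Nat.card Z))
    (hC : ∀ g ∈ U, t * g = g * t → g ∈ Z) : p ∣ Z.relIndex U - 1 := by
  have h3 : Nat.card (zpowers t) ∣ ((U : Set G) \ Z).ncard := by
    refine CfsgLib.Frob.card_dvd_ncard_of_free_conj (fun h hh s hs => ?_) fun h hh s hs e => ?_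
    · exact ⟨(mem_normalizer_iff.1 (zpowers_le.2 htU hh) s).1 hs.1,
        fun h' => hs.2 ((mem_normalizer_iff.1 (zpowers_le.2 htZ hh) s).2 h')⟩
    · by_contra hne
      exact hs.2 (hC s hs.1 (mem_centralizer_singleton_iff.1 (mem_of_pow_mem_of_prime
        (C := centralizer {s}) hp (ht ▸ pow_orderOf_eq_one t) hh hne
        (mem_centralizer_singleton_iff.2 e.symm))))
  have h4 : ((U : Set G) \ Z).ncard = Nat.card Z * (Z.relIndex U - 1) := by
    rw [Set.ncard_diff (SetLike.coe_subset_coe.2 hZU), Nat.mul_sub_one, card_mul_relIndex_of_le hZU]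
    rfl
  rw [h4, Nat.card_zpowers, ht] at h3
  exact hcop.dvd_of_dvd_mul_left h3

theorem commutator_centralizer_commutator_le {Q T K : Subgroup G}
    (hQ : Q ≤ normalizer (K : Set G)) (hT : T ≤ normalizer (K : Set G)) (h : ⁅⁅Q, Q⁆, T⁆ ≤ K) :
    ⁅⁅Q, T⁆, Q ⊓ centralizer (T : Set G)⁆ ≤ K := by
  refine three_subgroups_of_le_normalizer hQ hT (inf_le_left.trans hQ) ?_
    ((commutator_mono (commutator_mono inf_le_left le_rfl) le_rfl).trans h)
  rw [commutator_eq_bot_iff_le_centralizer.2 (le_centralizer_iff.1 inf_le_right),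
    commutator_bot_left]
  exact bot_le

variable {F : Type*} [Field F] {V : Type*} [AddCommGroup V] [Module F V]

theorem scal_le_center {ρ : Representation F G V} (hρ : ∀ g, ρ g = 1 → g = 1) :
    scal ρ ≤ center G := fun g hg => mem_center_iff.2 fun x => by
  have := hρ _ ((comm_iff_apply_eq_one ρ g x).1 (scal_comm hg _))
  rw [mul_inv_eq_one, mul_inv_eq_iff_eq_mul] at this
  exact this.symm

theorem rad_eq_of_faithful {ρ : Representation F G V} (hρ : ∀ g, ρ g = 1 → g = 1) (P : Subgroup G) :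
    rad ρ P = P ⊓ centralizer (P : Set G) := by
  ext g
  refine and_congr_right fun _ => forall₂_congr fun b _ => ?_
  rw [comm_iff_apply_eq_one]
  refine ⟨fun h => ?_, fun h => by rw [← h]; simp⟩
  have := hρ _ h
  rw [mul_inv_eq_one, mul_inv_eq_iff_eq_mul] at this
  exact this.symm

/-- in the exceptional case nothing of order prime to `p` and `u` commuting with `t` acts on `E` -/
theorem mem_centralizer_of_exception [Finite G] [IsAlgClosed F] [FiniteDimensional F V]
    [Nontrivial V] (ρ : Representation F G V) (hρ : ∀ g, ρ g = 1 → g = 1) {u r p k : ℕ}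
    [Fact u.Prime] (hr : r.Prime) (hp : p.Prime) (hru : r ≠ u) (hpu : p ≠ u) (hpr : p ≠ r)
    (hu : (u : F) ≠ 0) {E : Subgroup G} (hE : IsPGroup u E) {t : G} (ht : orderOf t = p)
    (htE : t ∈ normalizer (E : Set G)) (hcomm : ∀ a ∈ E, ∀ b ∈ E, a * b * a⁻¹ * b⁻¹ ∈ scal ρ)
    (hcent : rad ρ E ≤ scal ρ) (hC : ∀ a ∈ E, t * a = a * t → a ∈ rad ρ E) (hk : 1 ≤ k)
    (hpk : p = u ^ k + 1) (hi : (rad ρ E).relIndex E = u ^ (2 * k)) {g : G} {n : ℕ}
    (hg : g ^ r ^ n = 1) (hgE : g ∈ normalizer (E : Set G)) (hgt : Commute t g) :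
    g ∈ centralizer (E : Set G) := by
  classical
  by_contra hne
  have hex : ∃ j, g ^ r ^ j ∈ centralizer (E : Set G) := ⟨n, hg ▸ one_mem _⟩
  obtain ⟨j, hj⟩ : ∃ j, Nat.find hex = j + 1 :=
    Nat.exists_eq_succ_of_ne_zero fun h => hne (by simpa [h] using Nat.find_spec hex)
  have h1 : g ^ r ^ j ∉ centralizer (E : Set G) := Nat.find_min hex (by omega)
  have h2 : (g ^ r ^ j) ^ r ∈ centralizer (E : Set G) := by
    rw [← pow_mul, ← pow_succ, ← hj]; exact Nat.find_spec hex
  have h3 : (g ^ r ^ j) ^ r ^ n = 1 := by rw [← pow_mul, mul_comm, pow_mul, hg, one_pow]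
  have h4 : Commute t (g ^ r ^ j) := hgt.pow_right _
  have h5 : g ^ r ^ j ∈ normalizer (E : Set G) := pow_mem hgE _
  generalize g ^ r ^ j = y at h1 h2 h3 h4 h5
  have htp : t ^ p = 1 := ht ▸ pow_orderOf_eq_one t
  have hu2 := (Fact.out : u.Prime).two_le
  have hZ : rad ρ E ≤ center G := hcent.trans (scal_le_center hρ)
  have hR : IsPGroup u (rad ρ E) := hE.to_le (rad_le ρ E)
  have hNR := normalizer_le_normalizer_rad ρ E
  have hct : (orderOf t).Coprime (Nat.card (rad ρ E)) :=
    coprime_orderOf_of_pow_eq_one (n := 1) hp hpu hR (by simpa using htp)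
  have hCy : ∀ a ∈ E, y * a = a * y → a ∈ rad ρ E := by
    have h6 : rad ρ E ≤ E ⊓ centralizer {y} := le_inf (rad_le ρ E) (hZ.trans (center_le_centralizer _))
    have h7 := dvd_relIndex_sub_one h6 hp ht (inf_normalizer_le_normalizer_inf ⟨htE,
      le_normalizer (mem_centralizer_singleton_iff.2 h4)⟩) (hNR htE) (ht ▸ hct)
      fun a ha h => hC a ha.1 h
    have h8 := relIndex_mul_relIndex _ _ _ h6 (inf_le_left : E ⊓ centralizer {y} ≤ E)
    rw [hi] at h8
    obtain ⟨d, hd, h9⟩ := (Nat.dvd_prime_pow Fact.out).1 (Dvd.intro _ h8)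
    rw [h9, hpk] at h7
    rcases hd.eq_or_lt with rfl | hd
    · rw [h9, mul_eq_left₀ (by positivity), relIndex_eq_one] at h8
      exact absurd (fun a ha => mem_centralizer_singleton_iff.1 (h8 ha).2) h1
    · rw [eq_zero_of_dvd_pow_sub_one hu2 h7 hd, pow_zero, relIndex_eq_one] at h9
      exact fun a ha h => h9 ⟨ha, mem_centralizer_singleton_iff.2 h.symm⟩
  have hpr' := (Nat.coprime_primes hp hr).2 hpr
  obtain ⟨N, hN, hc, -⟩ := core_count' ρ E (t * y) (mul_mem htE h5) (p * r)
    (le_trans hp.two_le (Nat.le_mul_of_pos_right _ hr.pos)) (fun a ha => by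
      rw [h4.mul_pow, pow_mul, htp, one_pow, one_mul, mul_comm p, pow_mul, ← map_mul, ← map_mul,
        pow_mem h2 p a ha]) hcomm hcent (by
      intro i hi0 hi a ha h
      have hCs : centralizer (E : Set G) ≤ cosetStab (rad ρ E) a := fun c hc =>
        ⟨hNR (centralizer_le_normalizer _ hc), by rw [← hc a ha]; simp⟩
      have h6 : (t * y) ^ i ∈ cosetStab (rad ρ E) a := ⟨hNR (pow_mem (mul_mem htE h5) i), h⟩
      rw [h4.mul_pow] at h6
      by_cases hpi : p ∣ i
      · obtain ⟨m, rfl⟩ := hpi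
        rw [pow_mul, htp, one_pow, one_mul] at h6
        have h7 : (p * m).Coprime r := Nat.Coprime.mul_left hpr' ((Nat.Prime.coprime_iff_not_dvd hr).2
          fun h => absurd (Nat.le_of_dvd (Nat.pos_of_mul_pos_left hi0) h)
            (not_le.2 (Nat.lt_of_mul_lt_mul_left hi))).symm
        obtain ⟨e, he⟩ := exists_pow_eq_self_of_coprime (x := y) ((h7.pow_right n).coprime_dvd_right
          (orderOf_dvd_of_pow_eq_one h3))
        have h8 : y ∈ cosetStab (rad ρ E) a := he ▸ pow_mem h6 e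
        exact mem_of_comm_mem (rad_le ρ E) (le_normalizer.trans hNR) h8.1
          (coprime_orderOf_of_pow_eq_one hr hru hR h3) hCy ha h8.2
      · have h7 := pow_mem h6 r
        rw [(h4.pow_pow i i).mul_pow, ← pow_mul y, mul_comm i r, pow_mul y,
          mul_mem_cancel_right (hCs (pow_mem h2 i)), ← pow_mul] at h7
        obtain ⟨e, he⟩ := exists_pow_eq_self_of_coprime (x := t) (n := i * r) (ht ▸
          Nat.Coprime.mul_left ((Nat.Prime.coprime_iff_not_dvd hp).2 hpi).symm hpr'.symm)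
        have h8 : t ∈ cosetStab (rad ρ E) a := he ▸ pow_mem h7 e
        exact mem_of_comm_mem (rad_le ρ E) (le_normalizer.trans hNR) h8.1 hct hC ha h8.2)
    (card_ne_zero_of_isPGroup hu hE)
  rw [hi, mul_comm 2, pow_mul] at hN
  obtain rfl := Nat.pow_left_injective two_ne_zero hN
  have h6 : 1 < u ^ k := Nat.one_lt_pow (by omega) hu2
  have h7 : p * 2 ≤ p * r := Nat.mul_le_mul_left _ hr.two_le
  rw [Nat.mod_eq_of_lt (by omega)] at hc
  omega

theorem three_step_faithful [Finite G] [IsAlgClosed F] [FiniteDimensional F V]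
    (ρ : Representation F G V) (hρ : ∀ g, ρ g = 1 → g = 1) {u r p : ℕ} [Fact u.Prime]
    (hr : r.Prime) (hp : p.Prime) (hru : r ≠ u) (hpu : p ≠ u) (hpr : p ≠ r) (hu : (u : F) ≠ 0)
    {Q R : Subgroup G} (hQ : IsPGroup u Q) (hR : IsPGroup r R) {t : G} (ht : t ^ p = 1)
    (htQ : t ∈ normalizer (Q : Set G)) (htR : t ∈ normalizer (R : Set G))
    (hRQ : R ≤ normalizer (Q : Set G)) (hQR : ⁅Q, R⁆ = Q) (hcomm : ⁅Q, Q⁆ ≤ scal ρ)
    (hfix : ∀ v, ρ t v = v → v = 0) : ⁅Q, zpowers t⁆ = ⊥ := by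
  have := Fact.mk hr
  have := Fact.mk hp
  by_contra hE0
  set E := ⁅Q, zpowers t⁆ with hE
  set Z := Q ⊓ centralizer (Q : Set G) with hZ
  have hTQ := zpowers_le.2 htQ
  have hEQ : E ≤ Q := CfsgLib.Coprime.commutator_le_of_le_normalizer hTQ
  have hEu := hQ.to_le hEQ
  have ht1 : t ≠ 1 := by rintro rfl; exact hE0 (by simp [hE])
  have hot : orderOf t = p := orderOf_eq_prime ht ht1
  have ht' : t ^ p ^ (0 + 1) = 1 := by simpa using ht
  have hρt : ρ t ^ p ^ (0 + 1) = 1 := by rw [← map_pow, ht', map_one]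
  have hpi := not_powIndep_of_fix (pow_pos hp.pos _) hρt hfix
  have hcu : ∀ {T : Subgroup G}, T ≤ Q → (Nat.card (zpowers t)).Coprime (Nat.card T) := fun h => by
    rw [Nat.card_zpowers]; exact coprime_orderOf_of_pow_eq_one hp hpu (hQ.to_le h) ht'
  have hcr : ∀ {T : Subgroup G}, T ≤ R → (Nat.card (zpowers t)).Coprime (Nat.card T) := fun h => by
    rw [Nat.card_zpowers]; exact coprime_orderOf_of_pow_eq_one hp hpr (hR.to_le h) ht'
  have hcru : ∀ {T T' : Subgroup G}, T ≤ R → T' ≤ Q → (Nat.card T).Coprime (Nat.card T') :=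
    fun h h' => IsPGroup.coprime_card_of_ne r u hru _ _ (hR.to_le h) (hQ.to_le h')
  have hst := CfsgLib.Coprime.isSolvable_zpowers t
  have hsQ := CfsgLib.Coprime.isSolvable_of_isPGroup hQ
  have hab : ∀ {T : Subgroup G}, T ≤ Q → t ∈ normalizer (T : Set G) → T ≤ centralizer (T : Set G) →
      ⁅T, zpowers t⁆ = ⊥ := fun h1 h2 h3 => eq_bot_iff.2 fun g hg => hρ g (by
    simpa using hh_abelian hp hpu hu ρ (hQ.to_le h1) (fun a ha b hb => by
      rw [← map_mul, ← map_mul, h3 hb a ha]) h2 hρt hpi (by simpa using hg))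
  have hNZ := normalizer_le_normalizer_inf_centralizer Q
  have hZt : ⁅Z, zpowers t⁆ = ⊥ := hab inf_le_left (hNZ htQ)
    (inf_le_right.trans (centralizer_le inf_le_left))
  have hEt : ⁅E, zpowers t⁆ = E := CfsgLib.Coprime.commutator_commutator_eq hTQ (hcu le_rfl)
  have htE : t ∈ normalizer (E : Set G) := normalizer_commutator_ge_right _ _ (mem_zpowers t)
  have hEna : ¬ E ≤ centralizer (E : Set G) := fun h => hE0 (hEt ▸ hab hEQ htE h)
  have hQc : ⁅Q, Q⁆ ≤ center G := hcomm.trans (scal_le_center hρ)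
  have hQZ : ⁅Q, Q⁆ ≤ Z := le_inf (commutator_le_of_le le_rfl le_rfl)
    (hQc.trans (center_le_centralizer _))
  have hperp : ∀ T : Subgroup G, ⁅Q, T⁆ ≤ centralizer ((Q ⊓ centralizer (T : Set G) : Subgroup G) :
      Set G) := fun T => commutator_eq_bot_iff_le_centralizer.1 (eq_bot_iff.2
    (commutator_centralizer_commutator_le le_normalizer_of_normal le_normalizer_of_normal
      (commutator_eq_bot_iff_le_centralizer.2 (hQc.trans (center_le_centralizer _))).le))
  have hQE : E ⊔ (Q ⊓ centralizer {t}) = Q := centralizer_zpowers t ▸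
    CfsgLib.Coprime.commutator_sup_centralizer hTQ (hcu le_rfl) (Or.inl hst)
  have hCE : ∀ g ∈ E, t * g = g * t → g ∈ ⁅Q, Q⁆ := fun g hg h =>
    CfsgLib.Coprime.centralizer_inf_commutator_le hTQ (hcu le_rfl)
      ⟨by rw [centralizer_zpowers]; exact mem_centralizer_singleton_iff.2 h.symm, hg⟩
  have hcE : ∀ a ∈ E, ∀ b ∈ E, a * b * a⁻¹ * b⁻¹ ∈ scal ρ := fun a ha b hb =>
    hcomm (commutator_mem_commutator (hEQ ha) (hEQ hb))
  obtain ⟨hcent, k, hk, hpk, hi, -⟩ := classTwo hp hpu hu ρ hEu htE ht' hcE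
    (fun g hg h => hcomm (hCE g hg (by simpa using h))) (by
      by_contra h
      push Not at h
      exact hEna fun g hg => ((rad_eq_of_faithful hρ E).le (⟨hg, h g hg⟩ : g ∈ rad ρ E)).2) hpi
  rw [zero_add, pow_one] at hpk
  have : Nontrivial V := by
    by_contra h
    rw [not_nontrivial_iff_subsingleton] at h
    exact ht1 (hρ t (Subsingleton.elim _ _))
  have hα : R ⊓ centralizer {t} ≤ centralizer (E : Set G) := by
    intro g hg
    obtain ⟨n, hn⟩ := isPGroup_subgroup_iff.1 hR g hg.1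
    exact mem_centralizer_of_exception ρ hρ hr hp hru hpu hpr hu hEu hot htE hcE hcent
      (fun a ha h => ⟨ha, fun b _ => scal_comm (hcomm (hCE a ha h)) _⟩) hk hpk hi hn
      (normalizer_inf_le_normalizer_commutator _ _ ⟨hRQ hg.1,
        centralizer_le_normalizer _ (centralizer_zpowers t ▸ hg.2)⟩)
      (mem_centralizer_singleton_iff.1 hg.2).symm
  have hTR := zpowers_le.2 htR
  set R₁ := ⁅R, zpowers t⁆ with hR₁
  have hR₁R : R₁ ≤ R := CfsgLib.Coprime.commutator_le_of_le_normalizer hTR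
  by_cases hA : R₁ ≤ centralizer (Q : Set G)
  · have h1 : R ≤ centralizer (E : Set G) := by
      rw [← CfsgLib.Coprime.commutator_sup_centralizer hTR (hcr le_rfl) (Or.inl hst),
        centralizer_zpowers]
      exact sup_le (hA.trans (centralizer_le hEQ)) hα
    refine hEna ((le_inf (le_centralizer_iff.1 h1) (hEQ.trans hQR.ge)).trans
      ((CfsgLib.Coprime.centralizer_inf_commutator_le hRQ (hcru le_rfl le_rfl)).trans
        (hQc.trans (center_le_centralizer _))))
  have hR₁t : ⁅R₁, zpowers t⁆ = R₁ := CfsgLib.Coprime.commutator_commutator_eq hTR (hcr le_rfl)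
  have htR₁ : t ∈ normalizer (R₁ : Set G) := normalizer_commutator_ge_right _ _ (mem_zpowers t)
  have hR₁Z : R₁ ≤ centralizer (Z : Set G) := by
    rw [← le_centralizer_iff, ← commutator_eq_bot_iff_le_centralizer, eq_bot_iff]
    exact commutator_le_of_commutator_eq (hRQ.trans hNZ) le_normalizer_of_normal
      le_normalizer_of_normal hZt.le
  obtain ⟨Y, hYR, htY, hYC, hY⟩ : ∃ Y ≤ R₁, t ∈ normalizer (Y : Set G) ∧
      ⁅Y, R₁⁆ ≤ centralizer (Q : Set G) ∧ ¬ Y ≤ centralizer (Q : Set G) := by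
    classical
    have hex : ∃ j, R₁.lowerCentralSeries j ≤ centralizer (Q : Set G) := by
      obtain ⟨j, hj⟩ := (isNilpotent_iff_lowerCentralSeries R₁).1 (hR.to_le hR₁R).isNilpotent
      exact ⟨j, hj ▸ bot_le⟩
    obtain ⟨j, hj⟩ : ∃ j, Nat.find hex = j + 1 :=
      Nat.exists_eq_succ_of_ne_zero fun h => hA (by simpa [h] using Nat.find_spec hex)
    refine ⟨R₁.lowerCentralSeries j, lowerCentralSeries_le_self _ _, ?_,
      (hj ▸ Nat.find_spec hex :), Nat.find_min hex (by omega)⟩
    rw [mem_normalizer_iff_map_conj_eq'] at htR₁ ⊢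
    rw [map_lowerCentralSeries, htR₁]
  have hYR' := hYR.trans hR₁R
  by_cases hB : ∀ y ∈ Y, t * y = y * t → y ∈ centralizer (Q : Set G)
  swap
  · push Not at hB
    obtain ⟨y, hy, hyt, hyQ⟩ := hB
    have h1 : E ≤ Q ⊓ centralizer {y} := le_inf hEQ fun e he => mem_centralizer_singleton_iff.2
      (hα ⟨hYR' hy, mem_centralizer_singleton_iff.2 hyt.symm⟩ e he)
    have h2 : R₁ ≤ normalizer ((Q ⊓ centralizer {y} : Subgroup G) : Set G) := fun g hg =>
      mem_normalizer_of_forall_conj_mem fun x hx => by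
        have h3 := (mem_normalizer_iff.1 (hRQ (hR₁R hg)) x).1 hx.1
        refine ⟨h3, mem_centralizer_singleton_iff.2 ?_⟩
        have h4 := hYC (commutator_mem_commutator hy hg) _ h3
        have h5 := mem_centralizer_singleton_iff.1 hx.2
        calc g * x * g⁻¹ * y = g * x * g⁻¹ * ⁅y, g⁆ * (g * y * g⁻¹) := by
              simp only [commutatorElement_def]; group
          _ = ⁅y, g⁆ * g * (x * y) * g⁻¹ := by rw [h4]; group
          _ = _ := by rw [h5]; simp only [commutatorElement_def]; group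
    have h3 := commutator_le_of_commutator_eq (hR₁R.trans hRQ) h2 (zpowers_le.2
      (inf_normalizer_le_normalizer_inf ⟨htQ, le_normalizer (mem_centralizer_singleton_iff.2 hyt)⟩)) h1
    rw [hR₁t] at h3
    have h4 := zpowers_le.2 (hYR hy)
    exact hyQ (CfsgLib.Coprime.le_centralizer_of_commutator_le_centralizer ((h4.trans hR₁R).trans hRQ)
      (hcru (h4.trans hR₁R) le_rfl) (centralizer_zpowers y ▸
        ((commutator_mono le_rfl h4).trans h3).trans inf_le_right) (mem_zpowers y))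
  have hw := wielandt_mod hp ht htY (hYR'.trans hRQ) htQ hsQ
    (by rw [← hot, ← Nat.card_zpowers]; exact hcr hYR')
    (by rw [← hot, ← Nat.card_zpowers]; exact hcu le_rfl) (hcru hYR' le_rfl) hB hY
  set C := Q ⊓ centralizer {t} with hC
  set C₀ := C ⊓ centralizer (Y : Set G) with hC₀
  have hEC : E ≤ centralizer (C : Set G) := hC ▸ centralizer_zpowers t ▸ hperp (zpowers t)
  have hcardQ : Nat.card Q = Nat.card C * u ^ (2 * k) := by
    have h1 : C.relIndex Q = (rad ρ E).relIndex E := by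
      conv_lhs => rw [← hQE, sup_comm]
      rw [CfsgLib.Coprime.relIndex_sup_of_le_normalizer (hEC.trans (centralizer_le_normalizer _)),
        ← inf_relIndex_right]
      congr 1
      refine le_antisymm (fun g hg => ⟨hg.2, fun b _ => scal_comm (hcomm (hCE g hg.2
        (mem_centralizer_singleton_iff.1 hg.1.2).symm)) _⟩) fun g hg =>
        ⟨⟨hEQ hg.1, center_le_centralizer _ (scal_le_center hρ (hcent hg))⟩, hg.1⟩
    rw [← hi, ← h1, card_mul_relIndex_of_le inf_le_left]
  have hcC := card_mul_relIndex_of_le (inf_le_left : C₀ ≤ C)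
  have h0 : 0 < Nat.card C₀ := Nat.card_pos
  have hle : Nat.card C₀ ≤ Nat.card ↥(Q ⊓ centralizer (Y : Set G)) :=
    card_le_of_le (inf_le_inf_right _ inf_le_left)
  set i := C₀.relIndex C with hidef
  have hi0 : 0 < i := Nat.pos_of_ne_zero index_ne_zero_of_finite
  have h1 : Nat.card C₀ * u ^ (2 * k) = i ^ u ^ k * Nat.card ↥(Q ⊓ centralizer (Y : Set G)) := by
    rw [hcardQ, ← hcC, mul_pow, hpk, pow_succ i] at hw
    apply Nat.eq_of_mul_eq_mul_left (show 0 < Nat.card C₀ ^ (u ^ k + 1) * i by positivity)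
    linear_combination hw
  obtain rfl : u = 2 := eq_two_of_prime_eq_pow_add_one Fact.out hp hk hpk
  obtain ⟨n, hn⟩ := IsPGroup.iff_card.1 (hQ.to_le (inf_le_left : C ≤ Q))
  obtain ⟨d, -, hd⟩ := (Nat.dvd_prime_pow Nat.prime_two).1 (hn ▸ Dvd.intro_left _ hcC)
  have h2 : i ^ 2 ^ k ≤ 2 ^ (2 * k) := by
    apply Nat.le_of_mul_le_mul_left _ h0
    rw [h1, mul_comm]
    exact Nat.mul_le_mul_left _ hle
  have h3 : d < 2 := by
    rw [hd, ← pow_mul, Nat.pow_le_pow_iff_right one_lt_two] at h2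
    have := Nat.lt_two_pow_self (n := k)
    nlinarith
  interval_cases d
  · rw [hd, pow_zero, one_pow, one_mul] at h1
    rw [hd, pow_zero, mul_one] at hcC
    rw [hcC, ← hcardQ] at h1
    exact hY (le_centralizer_iff.1 ((eq_of_le_of_card_le inf_le_left h1.le).ge.trans inf_le_right))
  obtain ⟨c, hc, hc0⟩ : ∃ c ∈ C, c ∉ C₀ := SetLike.not_le_iff_exists.1 fun h => by
    rw [← relIndex_eq_one, ← hidef, hd] at h
    omega
  obtain ⟨a, ha, b, hb, rfl⟩ := CfsgLib.Coprime.exists_commutator_mul_centralizer (hYR'.trans hRQ)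
    (hcru hYR' le_rfl) (Or.inr hsQ) hc.1
  have hQY : ⁅Q, Y⁆ ≤ Q := CfsgLib.Coprime.commutator_le_of_le_normalizer (hYR'.trans hRQ)
  obtain ⟨a', ha', b', hb', e⟩ := CfsgLib.Coprime.exists_centralizer_mul_centralizer
    (zpowers_le.2 (normalizer_inf_le_normalizer_commutator _ _ ⟨htQ, htY⟩))
    (zpowers_le.2 (inf_normalizer_le_normalizer_inf
      ⟨htQ, normalizer_le_normalizer_centralizer _ htY⟩)) (hcu (inf_le_left.trans hQY)) (Or.inl hst)
    ha hb (centralizer_zpowers t ▸ hc.2)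
  rw [centralizer_zpowers] at ha' hb'
  have ha'C : a' ∈ C := ⟨hQY ha'.1, ha'.2⟩
  have ha0 : a' ∉ C₀ := fun h => hc0 (e ▸ mul_mem h ⟨⟨hb'.1.1, hb'.2⟩, hb'.1.2⟩)
  have h4 : C₀ ⊔ zpowers a' = C := CfsgLib.Coprime.eq_of_lt_of_relIndex_prime (H := C₀)
    (by rw [← hidef, hd]; exact Nat.prime_two) (left_lt_sup.2 (by rwa [zpowers_le]))
    (sup_le inf_le_left (zpowers_le.2 ha'C))
  refine ha0 ⟨ha'C, le_centralizer_iff.1 (hYR.trans hR₁Z) ⟨ha'C.1, ?_⟩⟩
  rw [← hQE, ← h4, centralizer_sup, centralizer_sup]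
  exact ⟨le_centralizer_iff.1 hEC ha'C, centralizer_le (inf_le_inf_right _ inf_le_left)
    (hperp Y ha'.1), le_centralizer _ (mem_zpowers a')⟩

/-- An element of prime order without fixed vectors on a three-step tower. -/
theorem three_step [Finite G] [IsAlgClosed F] [FiniteDimensional F V]
    (ρ : Representation F G V) {u r p : ℕ} [Fact u.Prime]
    (hr : r.Prime) (hp : p.Prime) (hru : r ≠ u) (hpu : p ≠ u) (hpr : p ≠ r) (hu : (u : F) ≠ 0)
    {Q R Z : Subgroup G} (hQ : IsPGroup u Q) (hR : IsPGroup r R) {t : G} (ht : t ^ p = 1)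
    (htQ : t ∈ normalizer (Q : Set G)) (htR : t ∈ normalizer (R : Set G))
    (hRQ : R ≤ normalizer (Q : Set G)) (hQR : ⁅Q, R⁆ = Q) (hQZ : ⁅Q, Q⁆ ≤ Z) {χ : Z → F}
    (hQW : Q ≤ stab ρ (wt ρ Z χ)) (hRW : R ≤ stab ρ (wt ρ Z χ)) (htW : t ∈ stab ρ (wt ρ Z χ))
    (hfix : ∀ v ∈ wt ρ Z χ, ρ t v = v → v = 0) : ⁅Q, zpowers t⁆ ≤ kerOn ρ (wt ρ Z χ) := by
  by_cases hW : wt ρ Z χ = ⊥
  · intro g _ v hv
    rw [hW, Submodule.mem_bot] at hv
    rw [hv, map_zero]
  let σ := subRep ρ (wt ρ Z χ)
  let π := QuotientGroup.mk' σ.ker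
  let t' : stab ρ (wt ρ Z χ) := ⟨t, htW⟩
  have h := three_step_faithful (QuotientGroup.lift σ.ker σ fun _ h => h) (by
      rintro ⟨g⟩ hg
      exact (QuotientGroup.eq_one_iff g).2 hg) hr hp hru hpu hpr hu
    (Q := (Q.subgroupOf _).map π) (R := (R.subgroupOf _).map π) (hQ.comap_subtype.map π)
    (hR.comap_subtype.map π) (t := π t')
    (by rw [← map_pow, show t' ^ p = 1 from Subtype.ext ht, map_one])
    (le_normalizer_map π ⟨t', mem_normalizer_subgroupOf htQ, rfl⟩)
    (le_normalizer_map π ⟨t', mem_normalizer_subgroupOf htR, rfl⟩)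
    ((map_mono fun g hg => mem_normalizer_subgroupOf (hRQ hg)).trans (le_normalizer_map π))
    (by rw [← map_commutator, commutator_subgroupOf hQW hRW, hQR]) (by
      rw [← map_commutator, commutator_subgroupOf hQW hQW]
      rintro _ ⟨g, hg, rfl⟩
      exact mem_scal_subRep_wt hW (hQZ hg))
    (fun v hv => Subtype.ext (hfix v v.2 (congrArg Subtype.val hv)))
  refine commutator_zpowers_right_le (stab_le_normalizer_kerOn _ _ htW) fun g hg => ?_
  rw [← MonoidHom.map_zpowers, ← map_commutator, Subgroup.map_eq_bot_iff, QuotientGroup.ker_mk'] at h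
  exact (subRep_eq_one_iff _ _ _).1 (h (commutator_mem_commutator
    (show (⟨g, hQW hg⟩ : stab ρ _) ∈ _ from hg) (mem_zpowers t')))

end CfsgLib.FPF
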