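import Mathlib
import Cfsg.Agent.Lib.FPF.Three
import Cfsg.Agent.Lib.HH.BG3

/-!
# Fixed point free groups of order `pq`

`pq_key` : the three-step statement for a group `A` of order `pq` with a normal subgroup of order
`p`; `fitSer_two_eq_bot_of_pq` : Fitting height at most two.
-/

set_option autoImplicit false

universe u v

namespace CfsgLib.FPF

open Subgroup CfsgLib.Core CfsgLib.HH Module
open scoped commutatorElement

theorem commutator_le_kerOn_of_fix {F : Type*} [Field F] {G : Type*} [Group G] [Finite G]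
    {V : Type*} [AddCommGroup V] [Module F V] [FiniteDimensional F V] (ρ : Representation F G V)
    {Q K : Subgroup G} (hKQ : K ≤ normalizer (Q : Set G)) (hK : (Nat.card K).Prime)
    (hcop : (Nat.card K).Coprime (Nat.card Q)) (hchar : (Nat.card Q : F) ≠ 0)
    (hodd : Odd (Nat.card Q) ∨ ¬ ∃ k, Nat.card K = 2 ^ k + 1) {W : Submodule F V}
    (hQW : Q ≤ stab ρ W) (hKW : K ≤ stab ρ W)
    (hfix : ∀ v ∈ W, (∀ x ∈ K, ρ x v = v) → v = 0) : ⁅Q, K⁆ ≤ kerOn ρ W := by
  have h := bg34_rep (subRep ρ W) (K := Q.subgroupOf _) (R := K.subgroupOf _)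
    (fun x hx => mem_normalizer_subgroupOf (hKQ hx)) (by rwa [card_subgroupOf_of_le hKW])
    (by rwa [card_subgroupOf_of_le hKW, card_subgroupOf_of_le hQW])
    (by rwa [card_subgroupOf_of_le hQW])
    (by rwa [card_subgroupOf_of_le hKW, card_subgroupOf_of_le hQW])
    (fun v hv => Subtype.ext (hfix v v.2 fun x hx =>
      congrArg Subtype.val (hv ⟨x, hKW hx⟩ hx)))
  rw [commutator_subgroupOf hKW hQW, commutator_comm] at h
  intro g hg
  exact (subRep_eq_one_iff ρ W ⟨g, ((commutator_le_sup _ _).trans (sup_le hQW hKW)) hg⟩).1 (h hg)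

theorem pq_key {F : Type*} [Field F] [IsAlgClosed F] {X : Type*} [Group X] [Finite X]
    {V : Type*} [AddCommGroup V] [Module F V] [FiniteDimensional F V] (ρ : Representation F X V)
    {p q : ℕ} (hp : p.Prime) (hq : q.Prime) (hpq : p ≠ q) {A S : Subgroup X} [S.Normal] {s : X}
    (hs : orderOf s = p) (hsA : s ∈ A)
    (hAs : A ≤ normalizer ((zpowers s : Subgroup X) : Set X))
    (hcard : Nat.card A = p * q) (hcop : (Nat.card A).Coprime (Nat.card S))
    (hodd : Odd (Nat.card S) ∨ ¬ ∃ k, p = 2 ^ k + 1)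
    (hfix : S ⊓ centralizer (A : Set X) = ⊥) (hV : ∀ v, (∀ a ∈ A, ρ a v = v) → v = 0)
    {u r : ℕ} {U R : Subgroup X} (hu : u.Prime) (hr : r.Prime) (huF : (u : F) ≠ 0) (hru : r ≠ u)
    (hUS : U ≤ S) (hRS : R ≤ S) (hU : IsPGroup u U) (hR : IsPGroup r R)
    (hAU : A ≤ normalizer (U : Set X)) (hRU : R ≤ normalizer (U : Set X))
    (hAR : A ≤ normalizer (R : Set X)) (hρ : ∀ g ∈ U, ρ g = 1 → g = 1) :
    R ≤ centralizer (U : Set X) := by
  have := Fact.mk hu
  have := Fact.mk hr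
  have := Fact.mk hp
  have := Fact.mk hq
  set K := zpowers s with hK
  have hKA : K ≤ A := zpowers_le.2 hsA
  have hcK : Nat.card K = p := by rw [Nat.card_zpowers, hs]
  have hcA : ∀ {B T : Subgroup X}, B ≤ A → T ≤ S → (Nat.card B).Coprime (Nat.card T) :=
    fun h h' => CfsgLib.Coprime.coprime_of_le hcop h h'
  have hidx : K.relIndex A = q := by
    have h2 := card_mul_relIndex_of_le hKA
    rw [hcK, hcard] at h2
    exact Nat.eq_of_mul_eq_mul_left hp.pos h2
  have hgen : ∀ t ∈ A, t ∉ K → K ⊔ zpowers t = A := fun t ht htK =>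
    CfsgLib.Coprime.eq_of_lt_of_relIndex_prime (H := K) (hidx ▸ hq)
      (left_lt_sup.2 (by rwa [zpowers_le])) (sup_le hKA (zpowers_le.2 ht))
  have hpow : ∀ t ∈ A, t ^ q ∈ K := fun t ht => by
    have := normal_subgroupOf_of_le_normalizer hAs
    have h := pow_index_mem (K.subgroupOf A) ⟨t, ht⟩
    rw [show (K.subgroupOf A).index = q from hidx] at h
    exact h
  have hfix2 : ∀ t ∈ A, t ∉ K → ∀ T ≤ S, T ⊓ centralizer (K : Set X) ⊓ centralizer {t} = ⊥ := by
    intro t ht htK T hT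
    rw [eq_bot_iff, ← hfix, ← hgen t ht htK, centralizer_sup, centralizer_zpowers t, inf_assoc]
    exact inf_le_inf_right _ hT
  have hAC : A ≤ normalizer ((centralizer (K : Set X) : Subgroup X) : Set X) :=
    hAs.trans (normalizer_le_normalizer_centralizer _)
  have hAC' : ∀ {T : Subgroup X}, A ≤ normalizer (T : Set X) →
      A ≤ normalizer ((T ⊓ centralizer (K : Set X) : Subgroup X) : Set X) := fun h =>
    (le_inf h hAC).trans inf_normalizer_le_normalizer_inf
  have hndvd : ∀ {m : ℕ} {T : Subgroup X}, m.Prime → m ∣ Nat.card A → T ≤ S → T ≠ ⊥ →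
      ¬ IsPGroup m T := fun hm h hT h0 hP => by
    have := Fact.mk hm
    have h1 := Nat.dvd_gcd h (dvd_card_of_isPGroup_of_ne_bot hP h0)
    rw [hcA le_rfl hT] at h1
    exact hm.one_lt.ne' (Nat.dvd_one.1 h1)
  by_contra hne
  obtain ⟨Q, hQU, hAQ, hRQ, hne', hmin⟩ := exists_minimal_not_le_centralizer hAU hRU hne
  have hQu := hU.to_le hQU
  have hQS := hQU.trans hUS
  have hcRQ : (Nat.card R).Coprime (Nat.card Q) := IsPGroup.coprime_card_of_ne r u hru _ _ hR hQu
  obtain ⟨hQR, hQ2, -, -, -⟩ := minimal_special hQu hAQ hRQ hAR hcRQ hne' hmin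
  have hQ0 : Q ≠ ⊥ := by
    rintro rfl
    exact hne' fun g _ x hx => by rw [mem_bot.1 hx]; simp
  have hR0 : R ≠ ⊥ := by
    rintro rfl
    exact hne' bot_le
  have hQs : Group.IsSolvable Q := have := hQu.isNilpotent; inferInstance
  have hRs : Group.IsSolvable R := have := hR.isNilpotent; inferInstance
  let Z := Q ⊓ centralizer (Q : Set X)
  have hNZ : normalizer (Q : Set X) ≤ normalizer (Z : Set X) :=
    normalizer_le_normalizer_inf_centralizer Q
  obtain ⟨⟨z, hz⟩, hz1⟩ := ne_bot_iff_exists_ne_one.1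
    (inf_centralizer_ne_bot_of_isPGroup hQu hQu le_normalizer hQ0)
  have hZQ : ∀ z ∈ Z, ∀ g ∈ Q, ρ z * ρ g = ρ g * ρ z := fun z hz g hg => by
    rw [← map_mul, ← map_mul, hz.2 g hg]
  obtain ⟨n, hn⟩ := isPGroup_subgroup_iff.1 hQu z hz.1
  obtain ⟨χ, hW, hχ⟩ := exists_wt_not_mem_kerOn ρ (Z := Z) (fun z hz z' hz' => hZQ z hz z' hz'.1)
    (fun z' hz' => hZQ z' hz' z hz.1) (m := u ^ n) (by rw [Nat.cast_pow]; exact pow_ne_zero _ huF)
    (by rw [← map_pow, hn, map_one]) (fun h => hz1 (Subtype.ext (hρ _ (hQU hz.1) h)))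
  set W := wt ρ Z χ with hWdef
  have hZA : ⁅Z, A⁆ = Z := CfsgLib.Coprime.commutator_eq_of_centralizer_eq_bot (hAQ.trans hNZ)
    (hcA le_rfl (inf_le_left.trans hQS))
    (Or.inr (have := (hQu.to_le (inf_le_left : Z ≤ Q)).isNilpotent; inferInstance))
    (eq_bot_iff.2 (hfix ▸ inf_le_inf_right _ (inf_le_left.trans hQS)))
  have hnot : ∀ g ∈ R, ¬ A ≤ stab ρ (W.map (ρ g)) := by
    intro g hg h
    have hgZ := hNZ (hRQ hg)
    rw [hWdef, map_wt ρ hgZ] at h
    have h1 := commutator_le_kerOn_wt h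
    rw [commutator_comm, hZA, ← map_wt] at h1
    have h2 := mem_kerOn_map_iff.1 (h1 ((mem_normalizer_iff.1 hgZ z).1 hz))
    exact hχ (by simpa [mul_assoc] using h2)
  have hex : ∀ g ∈ R, ∃ c ∈ A, c ≠ 1 ∧ c ∈ stab ρ (W.map (ρ g)) := by
    intro g hg
    have h1 : A ⊓ stab ρ (W.map (ρ g)) ≠ ⊥ := fun h => by
      apply map_rep_ne_bot ρ hW g
      rw [hWdef, map_wt ρ (hNZ (hRQ hg))] at h ⊢
      exact wt_eq_bot_of_free ρ (hAQ.trans hNZ) _ h hV
    obtain ⟨⟨c, hc⟩, hc1⟩ := ne_bot_iff_exists_ne_one.1 h1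
    exact ⟨c, hc.1, fun h => hc1 (Subtype.ext h), hc.2⟩
  let D := R ⊔ (stab ρ W ⊓ normalizer (R : Set X))
  have hAD : ¬ A ≤ D := fun h => by
    obtain ⟨g, hg, h1⟩ := CfsgLib.Coprime.exists_conj_smul_le_of_le_sup inf_le_right h
      (hcA le_rfl hRS) (Or.inr hRs)
    refine hnot g⁻¹ (R.inv_mem hg) fun a ha => mem_stab_map_iff.2 ?_
    simpa using (CfsgLib.Coprime.conj_smul_le_iff.1 h1 a ha).1
  have hD : ∀ g ∈ R, ∀ c ∈ A, c ∈ stab ρ (W.map (ρ g)) → c ∈ D := by
    intro g hg c hcA hc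
    rw [show c = g * (g⁻¹ * c * g) * g⁻¹ by group]
    refine mul_mem (mul_mem (mem_sup_left hg) (mem_sup_right ⟨mem_stab_map_iff.1 hc, ?_⟩))
      (mem_sup_left (inv_mem hg))
    exact Subgroup.mul_mem _ (mul_mem (inv_mem (le_normalizer hg)) (hAR hcA)) (le_normalizer hg)
  have hsp : s ^ p = 1 := hs ▸ pow_orderOf_eq_one s
  have hboth : ∀ {C : Subgroup X}, s ∈ C → ∀ t ∈ A, t ∉ K → t ∈ C → A ≤ C := fun h t ht htK h' =>
    hgen t ht htK ▸ sup_le (zpowers_le.2 h) (zpowers_le.2 h')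
  set W' := orbSp ρ R W with hW'
  have hQW' : Q ≤ stab ρ W' := fun x hx =>
    mem_stab_orbSp_of_forall fun g hg => le_stab_map (le_stab_wt hZQ χ) (hRQ hg) hx
  have hQK : Q ≤ normalizer (kerOn ρ W' : Set X) := hQW'.trans (stab_le_normalizer_kerOn _ _)
  have hRK : R ≤ normalizer (kerOn ρ W' : Set X) :=
    (le_stab_orbSp ρ R W).trans (stab_le_normalizer_kerOn _ _)
  have hQn : ¬ Q ≤ kerOn ρ W' := fun h => hχ fun v hv => h hz.1 v (le_orbSp ρ R W hv)
  by_cases hsD : s ∈ D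
  · -- the normal subgroup of order `p` stabilises all the weight spaces
    have hsW : ∀ g ∈ R, K ≤ stab ρ (W.map (ρ g)) := by
      intro g hg
      obtain ⟨c, hcA', hc1, hc⟩ := hex g hg
      have hcK : c ∈ K := by
        by_contra h
        exact hAD (hboth hsD c hcA' h (hD g hg c hcA' hc))
      exact zpowers_le.2 (mem_of_pow_mem_of_prime hp hsp hcK hc1 hc)
    obtain ⟨⟨t, htA⟩, ht⟩ := exists_prime_orderOf_dvd_card' (G := A) q (hcard ▸ dvd_mul_left q p)
    rw [← orderOf_coe] at ht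
    have htK : t ∉ K := fun h => hpq.symm
      ((Nat.prime_dvd_prime_iff_eq hq hp).1 (ht ▸ hcK ▸ K.orderOf_dvd_natCard h))
    have h1 : ⁅Q, K⁆ ≤ kerOn ρ W' := fun x hx => mem_kerOn_orbSp.2 fun g hg => by
      have hfree : zpowers t ⊓ stab ρ (W.map (ρ g)) = ⊥ :=
        zpowers_inf_eq_bot_of_prime_orderOf (ht ▸ hq) fun h =>
          hnot g hg (hboth (hsW g hg (mem_zpowers s)) t htA htK h)
      refine commutator_le_kerOn_of_fix ρ (hKA.trans hAQ) (hcK ▸ hp) (hcA hKA hQS)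
        (card_ne_zero_of_isPGroup huF hQu) ?_ (le_stab_map (le_stab_wt hZQ χ) (hRQ hg)) (hsW g hg)
        (fun v hv h => ?_) hx
      · rw [hcK]
        exact hodd.imp_left fun h => h.of_dvd_nat (card_dvd_of_le hQS)
      · rw [hWdef] at hfree
        rw [map_wt ρ (hNZ (hRQ hg))] at hfree hv
        refine eq_zero_of_free ρ (zpowers_le.2 (hNZ (hAQ htA))) _ hfree
          (Or.inr (zpowers_le.2 (hAs htA))) ?_ hv h
        rwa [sup_comm, hgen t htA htK]
    have hKK : K ≤ normalizer (kerOn ρ W' : Set X) := fun x hx => stab_le_normalizer_kerOn _ _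
      (mem_stab_orbSp_of_forall fun g hg => hsW g hg hx)
    have := CfsgLib.Frob.isNilpotent_of_fpf (K := S ⊓ centralizer (K : Set X))
      (hAC' le_normalizer_of_normal htA) (hfix2 t htA htK S le_rfl) hq
      (by rw [← ht, pow_orderOf_eq_one]; exact one_mem _)
    have h2 := le_centralizer_of_coprime_of_le_isNilpotent (N := S ⊓ centralizer (K : Set X))
      (inf_le_inf_right _ hQS) (inf_le_inf_right _ hRS)
      (CfsgLib.Coprime.coprime_of_le hcRQ.symm inf_le_left inf_le_left)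
    apply hQn
    rw [← hQR, ← CfsgLib.Coprime.commutator_sup_centralizer (hKA.trans hAR) (hcA hKA hRS)
      (Or.inr hRs)]
    have hle := CfsgLib.Coprime.commutator_le_of_le_normalizer (hKA.trans hAR)
    refine commutator_sup_right_le (hle.trans hRK) (inf_le_left.trans hRK)
      (commutator_le_of_commutator_eq hRQ hRK hKK h1) ?_
    rw [← CfsgLib.Coprime.commutator_sup_centralizer (hKA.trans hAQ) (hcA hKA hQS) (Or.inr hQs)]
    refine commutator_sup_left_le (h1.trans le_normalizer) (inf_le_left.trans hQK)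
      ((commutator_mono h1 le_rfl).trans
        (CfsgLib.Coprime.commutator_le_of_le_normalizer (inf_le_left.trans hRK))) ?_
    rw [commutator_eq_bot_iff_le_centralizer.2 h2]
    exact bot_le
  -- an element of order `q` stabilises all the weight spaces
  have hKD : K ⊓ D = ⊥ := zpowers_inf_eq_bot_of_prime_orderOf (hs ▸ hp) hsD
  obtain ⟨t, htA, ht1, htW⟩ := hex 1 (one_mem _)
  have htD := hD 1 (one_mem _) t htA htW
  have hnK : ∀ c ∈ D, c ≠ 1 → c ∉ K := fun c hc hc1 h => hc1 (mem_bot.1 (hKD ▸ ⟨h, hc⟩))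
  have htK := hnK t htD ht1
  have htq : t ^ q = 1 := mem_bot.1 (hKD ▸ ⟨hpow t htA, pow_mem htD q⟩)
  have htW' : ∀ g ∈ R, t ∈ stab ρ (W.map (ρ g)) := by
    intro g hg
    obtain ⟨c, hcA', hc1, hc⟩ := hex g hg
    have hcD := hD g hg c hcA' hc
    rw [← hgen c hcA' (hnK c hcD hc1)] at htA
    obtain ⟨k, hk, c', hc', rfl⟩ :=
      (mem_sup_of_le_normalizer_left (zpowers_le.2 (hAs hcA'))).1 htA
    have hk1 : k ∈ D := by simpa using mul_mem htD (inv_mem (zpowers_le.2 hcD hc'))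
    rw [show k = 1 from mem_bot.1 (hKD ▸ ⟨hk, hk1⟩), one_mul]
    exact zpowers_le.2 hc hc'
  have hqA : q ∣ Nat.card A := hcard ▸ dvd_mul_left q p
  have h1 : ⁅Q, zpowers t⁆ ≤ kerOn ρ W' := fun x hx => mem_kerOn_orbSp.2 fun g hg => by
    have hgZ := hNZ (hRQ hg)
    by_cases hab : Q ≤ centralizer (Q : Set X)
    · have h2 := htW' g hg
      rw [hWdef, map_wt ρ hgZ] at h2 ⊢
      refine commutator_le_kerOn_wt (zpowers_le.2 h2) ?_
      rw [commutator_comm]
      exact commutator_mono (le_inf le_rfl hab) le_rfl hx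
    have hRZ := hmin Z (lt_of_le_of_ne inf_le_left fun e => hab (e.ge.trans inf_le_right))
      (hAQ.trans hNZ) (hRQ.trans hNZ)
    have hRW : R ≤ stab ρ W := le_stab_wt (fun z hz g hg => by
      rw [← map_mul, ← map_mul, hRZ hg z hz]) χ
    rw [map_eq_of_mem_stab (hRW hg)]
    rw [map_rep_one] at htW
    refine three_step ρ hr hq hru (fun e => hndvd hq hqA hQS hQ0 (e ▸ hQu))
      (fun e => hndvd hq hqA hRS hR0 (e ▸ hR)) huF hQu hR htq (hAQ htA) (hAR htA) hRQ hQR
      (le_inf (commutator_le_of_le le_rfl le_rfl) hQ2) (le_stab_wt hZQ χ) hRW htW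
      (fun v hv h => ?_) hx
    refine eq_zero_of_free ρ (hKA.trans (hAQ.trans hNZ)) χ (T := zpowers t) ?_
      (Or.inl (zpowers_le.2 (hAs htA))) (by rwa [hgen t htA htK]) hv
      (zpowers_le.2 h : _ ≤ vecStab ρ v)
    rw [eq_bot_iff, ← hKD]
    exact fun c hc => ⟨hc.1, hD 1 (one_mem _) c (hKA hc.1) (by rw [map_rep_one]; exact hc.2)⟩
  have htW2 : t ∈ stab ρ W' := mem_stab_orbSp_of_forall htW'
  have h2 : ⁅Q, ⁅R, zpowers t⁆⁆ ≤ kerOn ρ W' := commutator_le_of_commutator_eq hRQ hRK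
    (zpowers_le.2 (stab_le_normalizer_kerOn _ _ htW2)) h1
  have hstab : ∀ {E : Subgroup X}, E ≤ stab ρ W' → K ≤ normalizer (E : Set X) →
      E ≤ stab ρ (orbSp ρ K W') := fun hE hKE x hx =>
    mem_stab_orbSp_of_forall fun g hg => le_stab_map hE (hKE hg) hx
  have hAW : A ≤ stab ρ (orbSp ρ K W') := by
    refine hboth (le_stab_orbSp ρ K W' (mem_zpowers s)) t htA htK (mem_stab_orbSp fun g hg => ?_)
    refine ⟨t * g * t⁻¹, (mem_normalizer_iff.1 (hAs htA) g).1 hg, ?_⟩
    rw [show t * g = t * g * t⁻¹ * t by group, ← map_map_rep, map_eq_of_mem_stab htW2]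
    congr 2
    group
  have hRD := hmin (Q ⊓ kerOn ρ (orbSp ρ K W'))
    (lt_of_le_of_ne inf_le_left fun e => hQn fun x hx v hv =>
      (e.ge hx).2 v (le_orbSp ρ K W' hv))
    ((le_inf hAQ (hAW.trans (stab_le_normalizer_kerOn _ _))).trans inf_normalizer_le_normalizer_inf)
    ((le_inf hRQ ((hstab (le_stab_orbSp ρ R W) (hKA.trans hAR)).trans
      (stab_le_normalizer_kerOn _ _))).trans inf_normalizer_le_normalizer_inf)
  have hker : ∀ {E : Subgroup X}, E ≤ Q → E ≤ kerOn ρ W' → K ≤ normalizer (E : Set X) →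
      E ≤ centralizer (R : Set X) := fun hEQ hE hKE =>
    le_trans (le_inf hEQ fun x hx => mem_kerOn_orbSp.2 fun g hg => mem_kerOn_map_iff.2
      (hE ((mem_normalizer_iff''.1 (hKE hg) x).1 hx))) (le_centralizer_iff.1 hRD)
  have hCt : ∀ {T : Subgroup X}, T ≤ S → A ≤ normalizer (T : Set X) →
      T ⊓ centralizer (K : Set X) ≤ ⁅T, zpowers t⁆ := fun hT hAT => by
    rw [← CfsgLib.Coprime.commutator_eq_of_centralizer_eq_bot (zpowers_le.2 (hAC' hAT htA))
      (hcA (zpowers_le.2 htA) (inf_le_left.trans hT)) (Or.inl (CfsgLib.Coprime.isSolvable_zpowers t))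
      (by rw [centralizer_zpowers t]; exact hfix2 t htA htK _ hT)]
    exact commutator_mono inf_le_left le_rfl
  have h3 : Q ⊓ centralizer (K : Set X) ≤ centralizer (R : Set X) :=
    hker inf_le_left ((hCt hQS hAQ).trans h1) (hKA.trans (hAC' hAQ))
  have h4 : R ⊓ centralizer (K : Set X) ≤ centralizer (Q : Set X) := by
    refine CfsgLib.Coprime.le_centralizer_of_commutator_le_centralizer (inf_le_left.trans hRQ)
      (CfsgLib.Coprime.coprime_of_le hcRQ inf_le_left le_rfl) ((hker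
      (CfsgLib.Coprime.commutator_le_of_le_normalizer (inf_le_left.trans hRQ))
      ((commutator_mono le_rfl (hCt hRS hAR)).trans h2) ?_).trans (centralizer_le inf_le_left))
    exact (le_inf (hKA.trans hAQ) (hKA.trans (hAC' hAR))).trans
      (normalizer_inf_le_normalizer_commutator _ _)
  rw [hK, centralizer_zpowers] at h3 h4
  have h5 := wielandt_mod hp hsp (hAR hsA) hRQ (hAQ hsA) hQs (hcK ▸ hcA hKA hRS)
    (hcK ▸ hcA hKA hQS) hcRQ
    (fun g hg h => h4 ⟨hg, mem_centralizer_singleton_iff.2 h.symm⟩) hne'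
  rw [inf_eq_left.2 h3] at h5
  have h6 := Nat.eq_of_mul_eq_mul_left (pow_pos Nat.card_pos _) h5
  have h7 := eq_of_le_of_card_ge (inf_le_left : Q ⊓ centralizer (R : Set X) ≤ Q) h6.le
  exact hne' (le_centralizer_iff.1 (h7.ge.trans inf_le_right))

/-- `pq_key` over a prime field, for the image of an abstract group -/
theorem pq_key_zmod {A : Type*} [Group A] {p q : ℕ} (hp : p.Prime) (hq : q.Prime) (hpq : p ≠ q)
    {s : A} (hs : orderOf s = p) [hsn : (zpowers s).Normal] (hcard : Nat.card A = p * q)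
    (hodd : Even (Nat.card A) ∨ ¬ ∃ k, p = 2 ^ k + 1)
    {X : Type*} [Group X] [Finite X] (ι : A →* X) (hι : Function.Injective ι)
    {S : Subgroup X} [S.Normal] (hcop : (Nat.card A).Coprime (Nat.card S))
    (hfix : S ⊓ centralizer (ι.range : Set X) = ⊥) (l : ℕ) [Fact l.Prime] (V : Type*)
    [AddCommGroup V] [Module (ZMod l) V] [FiniteDimensional (ZMod l) V]
    (ρ : Representation (ZMod l) X V) (hl : ¬ l ∣ Nat.card A)
    (hV : ∀ v, (∀ a ∈ ι.range, ρ a v = v) → v = 0) {u r : ℕ} {U R : Subgroup X} (hu : u.Prime)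
    (hr : r.Prime) (hul : u ≠ l) (hru : r ≠ u) (hUS : U ≤ S) (hRS : R ≤ S) (hU : IsPGroup u U)
    (hR : IsPGroup r R) (hAU : ι.range ≤ normalizer (U : Set X)) (hRU : R ≤ normalizer (U : Set X))
    (hAR : ι.range ≤ normalizer (R : Set X)) (hρ : ∀ g ∈ U, ρ g = 1 → g = 1) :
    R ≤ centralizer (U : Set X) := by
  have hc := card_range_of_injective hι
  refine pq_key (baseChangeRep (AlgebraicClosure (ZMod l)) ρ) hp hq hpq (s := ι s)
    (by rw [orderOf_injective ι hι, hs]) (MonoidHom.mem_range.2 ⟨s, rfl⟩) ?_ (hc ▸ hcard) (hc ▸ hcop)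
    (hodd.imp_left fun h => ?_) hfix (fix_of_rankDom (rankDom_baseChangeRep _ ρ)
      (natCast_algebraicClosure_ne_zero (card_ne_zero_zmod (hc ▸ hl))) hV) hu hr
    (natCast_algebraicClosure_ne_zero (natCast_zmod_ne_zero Fact.out hu hul.symm)) hru hUS hRS hU
    hR hAU hRU hAR fun g hg h => hρ g hg ((baseChangeRep_eq_one_iff _ ρ).1 h)
  · rw [← MonoidHom.map_zpowers, MonoidHom.range_eq_map]
    exact (map_mono le_normalizer_of_normal).trans (le_normalizer_map ι)
  · exact Nat.coprime_two_left.1 (hcop.coprime_dvd_left h.two_dvd)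

theorem sdL_inf_centralizer_range {G A : Type*} [Group G] [Group A] (φ : A →* MulAut G)
    (hfpf : ∀ g : G, (∀ a, φ a g = g) → g = 1) : CfsgLib.Coprime.sdL φ ⊤ ⊓
      centralizer ((SemidirectProduct.inr : A →* G ⋊[φ] A).range : Set _) = ⊥ := by
  rw [MonoidHom.range_eq_map]
  refine (CfsgLib.Coprime.sdL_inf_centralizer ⊤).trans ?_
  rw [← CfsgLib.Coprime.sdL_bot, CfsgLib.Coprime.sdL_inj, eq_bot_iff]
  exact fun g hg => hfpf g fun a => hg.2 a

theorem fitSer_two_eq_bot_of_pq {G : Type u} {A : Type v} [Group G] [Finite G] [Group A]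
    (hG : Group.IsSolvable G) (φ : A →* MulAut G) {p q : ℕ} (hp : p.Prime) (hq : q.Prime)
    (hpq : p ≠ q) {s : A} (hs : orderOf s = p) [hsn : (zpowers s).Normal]
    (hcard : Nat.card A = p * q) (hcop : (Nat.card A).Coprime (Nat.card G))
    (hodd : Even (Nat.card A) ∨ ¬ ∃ k, p = 2 ^ k + 1)
    (hfpf : ∀ g : G, (∀ a, φ a g = g) → g = 1) : fitSer 2 (⊤ : Subgroup G) = ⊥ := by
  have : Finite A := Nat.finite_of_card_ne_zero (hcard ▸ (Nat.mul_pos hp.pos hq.pos).ne')
  have : Finite (G ⋊[φ] A) := CfsgLib.Coprime.finite_sd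
  have := CfsgLib.Coprime.sdL_top_normal (φ := φ)
  rw [← fitSer_sdL φ, fitSer_succ_eq_bot_iff]
  refine isNilpotent_nilRes_of_key (A := A) ?_ _ SemidirectProduct.inr
    SemidirectProduct.inr_injective rfl (isSolvable_sdL φ hG)
    (by rwa [CfsgLib.Coprime.card_sdL, card_top]) (sdL_inf_centralizer_range φ hfpf)
  intro X _ _ ι hι S _ _ hcop hfix l _ V _ _ _ ρ hl hV u r U R hu hr hul hru hUS hRS hU hR _ hAR hρ
  exact pq_key_zmod hp hq hpq hs hcard hodd ι hι hcop hfix l V ρ hl hV hu hr hul hru hUS hRS hU hR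
    le_normalizer_of_normal le_normalizer_of_normal hAR hρ

/-- a group of order `pq`, `q < p`, has a normal subgroup of order `p` -/
theorem exists_normal_zpowers {A : Type*} [Group A] {p q : ℕ} (hp : p.Prime) (hq : q.Prime)
    (hqp : q < p) (hcard : Nat.card A = p * q) : ∃ s : A, orderOf s = p ∧ (zpowers s).Normal := by
  have := Fact.mk hp
  have : Finite A := Nat.finite_of_card_ne_zero (hcard ▸ (Nat.mul_pos hp.pos hq.pos).ne')
  obtain ⟨s, hs⟩ := exists_prime_orderOf_dvd_card' (G := A) p (hcard ▸ dvd_mul_right p q)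
  refine ⟨s, hs, normal_of_index_eq_minFac_card ?_⟩
  have h := (zpowers s).card_mul_index
  rw [Nat.card_zpowers, hs, hcard] at h
  rw [Nat.eq_of_mul_eq_mul_left hp.pos h, hcard]
  have h1 : (p * q).minFac ≤ q := Nat.minFac_le_of_dvd hq.two_le (dvd_mul_left q p)
  have h2 := Nat.minFac_prime (n := p * q) (by nlinarith [hp.two_le, hq.two_le])
  rcases (Nat.Prime.dvd_mul h2).1 (Nat.minFac_dvd (p * q)) with h3 | h3
  · rw [(Nat.prime_dvd_prime_iff_eq h2 hp).1 h3] at h1
    omega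
  · exact ((Nat.prime_dvd_prime_iff_eq h2 hq).1 h3).symm

theorem dvd_sub_one_of_not_comm {A : Type*} [Group A] {p q : ℕ} (hp : p.Prime) (hq : q.Prime)
    (hpq : p ≠ q) {s : A} (hs : orderOf s = p) [hsn : (zpowers s).Normal]
    (hcard : Nat.card A = p * q) (hna : ¬ IsMulCommutative A) : q ∣ p - 1 := by
  have := Fact.mk hq
  have : Finite A := Nat.finite_of_card_ne_zero (hcard ▸ (Nat.mul_pos hp.pos hq.pos).ne')
  obtain ⟨t, ht⟩ := exists_prime_orderOf_dvd_card' (G := A) q (hcard ▸ dvd_mul_left q p)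
  have hcK : Nat.card (zpowers s) = p := by rw [Nat.card_zpowers, hs]
  have h := dvd_relIndex_sub_one (bot_le : ⊥ ≤ zpowers s) hq ht (le_normalizer_of_normal (mem_top t))
    (le_normalizer_of_normal (mem_top t)) (by simp) fun g hg h => ?_
  · rwa [relIndex_bot_left, hcK] at h
  by_contra h1
  apply hna
  have h2 : s ∈ centralizer {t} := mem_of_pow_mem_of_prime hp (hs ▸ pow_orderOf_eq_one s) hg h1
    (mem_centralizer_singleton_iff.2 h.symm)
  have hidx : (zpowers s).relIndex ⊤ = q := by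
    have h := (zpowers s).card_mul_index
    rw [hcK, hcard] at h
    rw [relIndex_top_right, Nat.eq_of_mul_eq_mul_left hp.pos h]
  have htK : t ∉ zpowers s := fun h => hpq.symm
    ((Nat.prime_dvd_prime_iff_eq hq hp).1 (ht ▸ hcK ▸ (zpowers s).orderOf_dvd_natCard h))
  have hgen : zpowers s ⊔ zpowers t = ⊤ := CfsgLib.Coprime.eq_of_lt_of_relIndex_prime (hidx ▸ hq)
    (left_lt_sup.2 (by rwa [zpowers_le])) le_top
  have h3 : ∀ x : A, s ∈ centralizer {x} → t ∈ centralizer {x} → ∀ y, y ∈ centralizer {x} :=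
    fun x h h' y => (hgen ▸ sup_le (zpowers_le.2 h) (zpowers_le.2 h') : ⊤ ≤ centralizer {x})
      (mem_top y)
  have h4 := h3 t h2 (mem_centralizer_singleton_iff.2 rfl)
  have h5 := h3 s (mem_centralizer_singleton_iff.2 rfl) (mem_centralizer_singleton_iff.2
    (mem_centralizer_singleton_iff.1 h2).symm)
  refine ⟨⟨fun x y => mem_centralizer_singleton_iff.1 (h3 y ?_ ?_ x)⟩⟩
  · exact mem_centralizer_singleton_iff.2 (mem_centralizer_singleton_iff.1 (h5 y)).symm
  · exact mem_centralizer_singleton_iff.2 (mem_centralizer_singleton_iff.1 (h4 y)).symm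

theorem fitSer_two_eq_bot_of_not_comm {G : Type u} {A : Type v} [Group G] [Finite G] [Group A]
    (hG : Group.IsSolvable G) (φ : A →* MulAut G) {p q : ℕ} (hp : p.Prime) (hq : q.Prime)
    (hqp : q < p) (hcard : Nat.card A = p * q) (hna : ¬ IsMulCommutative A)
    (hcop : (Nat.card A).Coprime (Nat.card G))
    (hfpf : ∀ g : G, (∀ a, φ a g = g) → g = 1) : fitSer 2 (⊤ : Subgroup G) = ⊥ := by
  obtain ⟨s, hs, hn⟩ := exists_normal_zpowers hp hq hqp hcard
  refine fitSer_two_eq_bot_of_pq hG φ hp hq hqp.ne' hs hcard hcop ?_ hfpf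
  rw [or_iff_not_imp_right, not_not]
  rintro ⟨k, hk⟩
  have h := dvd_sub_one_of_not_comm hp hq hqp.ne' hs hcard hna
  rw [hk, Nat.add_sub_cancel] at h
  rw [hcard, (Nat.prime_dvd_prime_iff_eq hq Nat.prime_two).1 (hq.dvd_of_dvd_pow h)]
  exact even_two.mul_left p

end CfsgLib.FPF
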